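/-
Small sets with an action of the additive group of a vector space `W` over a finite field which is
normalised by all transvections of `W`: either there is one regular orbit and the rest is fixed, or
every stabiliser is a hyperplane.

Main results: `dual_induction`, `dichotomy`.
-/
import Mathlib.NumberTheory.LegendreSymbol.Complex
import Mathlib.LinearAlgebra.Dual.Lemmas

set_option autoImplicit false

namespace Cfsg.Agent.MinIndexPSL

open Module

section Dual

variable {F W : Type*} [Field F] [AddCommGroup W] [Module F W]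

/-- Two independent functionals take the value one at a common vector. -/
lemma exists_common_one {l m : Dual F W} (hl : l ≠ 0) (hm : ∀ c : F, m ≠ c • l) :
    ∃ a, l a = 1 ∧ m a = 1 := by
  obtain ⟨a0, ha0⟩ : ∃ a, l a = 1 := LinearMap.surjective hl 1
  obtain ⟨b, hlb, hmb⟩ : ∃ b, l b = 0 ∧ m b ≠ 0 := by
    by_contra h
    push Not at h
    refine hm (m a0) (LinearMap.ext fun x => ?_)
    have := h (x - l x • a0) (by simp [ha0])
    simp [sub_eq_zero] at this
    rw [this, LinearMap.smul_apply, smul_eq_mul, mul_comm]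
  refine ⟨a0 + ((1 - m a0) / m b) • b, by simp [ha0, hlb], ?_⟩
  simp [div_mul_cancel₀ _ hmb]

variable [FiniteDimensional F W]

lemma exists_independent (hd : 2 ≤ finrank F W) (l : Dual F W) :
    ∃ n : Dual F W, ∀ c : F, n ≠ c • l := by
  by_contra h
  push Not at h
  have htop : (⊤ : Submodule F (Dual F W)) ≤ Submodule.span F {l} := fun n _ => by
    obtain ⟨c, rfl⟩ := h n
    exact Submodule.mem_span_singleton.2 ⟨c, rfl⟩
  have h1 := Submodule.finrank_mono htop
  rw [finrank_top, Subspace.dual_finrank_eq] at h1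
  have h2 := finrank_span_le_card (R := F) ({l} : Set (Dual F W))
  simp at h2
  omega

/-- Transvections are transitive on non-zero functionals. -/
theorem dual_induction (hd : 2 ≤ finrank F W) {P : Dual F W → Prop}
    (hstep : ∀ (l : Dual F W) (a : W) (χ : Dual F W), χ a = 0 → P l → P (l + l a • χ))
    {l₀ : Dual F W} (h0 : l₀ ≠ 0) (hP : P l₀) {m : Dual F W} (hm : m ≠ 0) : P m := by
  have link : ∀ l n : Dual F W, l ≠ 0 → (∀ c : F, n ≠ c • l) → P l → P n := by
    intro l n hl hn hPl
    obtain ⟨a, hla, hna⟩ := exists_common_one hl hn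
    simpa [hla] using hstep l a (n - l) (by simp [hla, hna]) hPl
  by_cases h : ∀ c : F, m ≠ c • l₀
  · exact link _ _ h0 h hP
  · push Not at h
    obtain ⟨c, rfl⟩ := h
    have hc : c ≠ 0 := fun hc => hm (by rw [hc, zero_smul])
    obtain ⟨n, hn⟩ := exists_independent hd l₀
    have hn0 : n ≠ 0 := by simpa using hn 0
    refine link n _ hn0 (fun d hd' => ?_) (link _ _ h0 hn hP)
    by_cases hd0 : d = 0
    · exact hm (by rw [hd', hd0, zero_smul])
    · exact hn (d⁻¹ * c) (by rw [mul_smul, hd', inv_smul_smul₀ hd0])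

end Dual

section Fourier

variable {F W : Type*} [Field F] [Finite F] [AddCommGroup W] [Module F W]

/-- A primitive complex character of the additive group of `F`. -/
noncomputable def psi : AddChar F ℂ :=
  AddChar.FiniteField.primitiveChar_to_Complex F

lemma psi_prim : (psi (F := F)).IsPrimitive := by
  exact AddChar.FiniteField.primitiveChar_to_Complex_isPrimitive F

lemma eq_zero_of_psi {x : F} (h : ∀ c : F, psi (c * x) = 1) : x = 0 := by
  by_contra hx
  refine psi_prim hx (DFunLike.ext _ _ fun c => ?_)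
  rw [AddChar.mulShift_apply, AddChar.one_apply, mul_comm]
  exact h c

/-- The annihilator of an additive subgroup in the dual space. -/
noncomputable def perp (R : AddSubgroup W) : AddSubgroup (Dual F W) where
  carrier := {l | ∀ w ∈ R, psi (l w) = 1}
  zero_mem' := fun w _ => by simp
  add_mem' := fun {a b} ha hb w hw => by
    rw [LinearMap.add_apply, AddChar.map_add_eq_mul, ha w hw, hb w hw, one_mul]
  neg_mem' := fun {a} ha w hw => by
    rw [LinearMap.neg_apply, ← map_neg]; exact ha _ (R.neg_mem hw)

lemma mem_perp {R : AddSubgroup W} {l : Dual F W} :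
    l ∈ perp R ↔ ∀ w ∈ R, psi (l w) = 1 := Iff.rfl

variable [Finite W]

lemma finite_dual : Finite (Dual F W) := Finite.of_injective _ DFunLike.coe_injective

lemma card_dual : Nat.card (Dual F W) = Nat.card W := by
  haveI := finite_dual (F := F) (W := W)
  haveI : FiniteDimensional F W := Module.Finite.of_finite
  rw [Module.natCard_eq_pow_finrank (K := F) (V := Dual F W),
    Module.natCard_eq_pow_finrank (K := F) (V := W), Subspace.dual_finrank_eq]

theorem card_mul_card_perp (R : AddSubgroup W) :
    Nat.card R * Nat.card (perp (F := F) R) = Nat.card W := by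
  classical
  haveI := finite_dual (F := F) (W := W)
  haveI : FiniteDimensional F W := Module.Finite.of_finite
  letI := Fintype.ofFinite (Dual F W)
  letI := Fintype.ofFinite R
  have key : ∑ l : Dual F W, ∑ w : R, psi (l (w : W)) = ∑ w : R, ∑ l : Dual F W, psi (l (w : W)) :=
    Finset.sum_comm
  have hl : ∀ l : Dual F W, ∑ w : R, psi (l (w : W))
      = if l ∈ perp R then (Nat.card R : ℂ) else 0 := by
    intro l
    by_cases h : l ∈ perp R
    · rw [if_pos h, Finset.sum_congr rfl (fun (w : R) _ => mem_perp.1 h w w.2)]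
      simp [Nat.card_eq_fintype_card]
    · rw [if_neg h]
      let χ : AddChar R ℂ := psi.compAddMonoidHom (l.toAddMonoidHom.comp R.subtype)
      have hχ : ∀ w, χ w = psi (l (w : W)) := fun w => rfl
      simp only [← hχ]
      refine AddChar.sum_eq_zero_of_ne_one fun h1 => h (mem_perp.2 fun w hw => ?_)
      rw [← hχ ⟨w, hw⟩, h1, AddChar.one_apply]
  have hw : ∀ w : R, ∑ l : Dual F W, psi (l (w : W))
      = if w = 0 then (Nat.card W : ℂ) else 0 := by
    intro w
    by_cases h : w = 0
    · subst h
      rw [if_pos rfl, ← card_dual (F := F) (W := W)]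
      simp [Nat.card_eq_fintype_card]
    · rw [if_neg h]
      let χ : AddChar (Dual F W) ℂ := psi.compAddMonoidHom (Dual.eval F W (w : W)).toAddMonoidHom
      have hχ : ∀ l, χ l = psi (l (w : W)) := fun l => rfl
      simp only [← hχ]
      refine AddChar.sum_eq_zero_of_ne_one fun h1 => h ?_
      refine Subtype.ext ((Module.forall_dual_apply_eq_zero_iff F (w : W)).1 fun l => ?_)
      refine eq_zero_of_psi fun c => ?_
      have := hχ (c • l)
      rw [h1, AddChar.one_apply] at this
      simpa using this.symm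
  rw [Finset.sum_congr rfl (fun l _ => hl l), Finset.sum_congr rfl (fun w _ => hw w),
    Finset.sum_ite_eq' Finset.univ (0 : R), if_pos (Finset.mem_univ _), ← Finset.sum_filter,
    Finset.sum_const, nsmul_eq_mul] at key
  have hc : (Finset.univ.filter (fun l => l ∈ perp (F := F) R)).card
      = Nat.card (perp (F := F) R) := by
    rw [Nat.card_eq_fintype_card, ← Fintype.card_subtype]
  rw [hc] at key
  rw [mul_comm]
  exact_mod_cast key

lemma eq_top_of_perp {R : AddSubgroup W} (h : perp (F := F) R = ⊥) : R = ⊤ := by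
  have := card_mul_card_perp (F := F) R
  rw [h, AddSubgroup.card_bot, mul_one] at this
  exact AddSubgroup.eq_top_of_card_eq _ this

lemma eq_bot_of_perp {R : AddSubgroup W} (h : perp (F := F) R = ⊤) : R = ⊥ := by
  have := card_mul_card_perp (F := F) R
  rw [h, AddSubgroup.card_top, card_dual] at this
  refine AddSubgroup.eq_bot_of_card_eq _ ?_
  exact Nat.eq_of_mul_eq_mul_right Nat.card_pos (this.trans (one_mul _).symm)

end Fourier

section Dichotomy

variable {F W Ω : Type*} [Field F] [Finite F] [AddCommGroup W] [Module F W]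
  [AddAction W Ω]

lemma stabilizer_vadd (u : W) (x : Ω) :
    AddAction.stabilizer W (u +ᵥ x) = AddAction.stabilizer W x := by
  ext w
  rw [AddAction.mem_stabilizer_iff, AddAction.mem_stabilizer_iff, vadd_vadd, add_comm, ← vadd_vadd]
  exact ⟨fun h => vadd_left_cancel u h, fun h => by rw [h]⟩

variable (F) in
/-- The annihilator of the stabiliser, on orbits. -/
noncomputable def operp : AddAction.orbitRel.Quotient W Ω → AddSubgroup (Dual F W) :=
  Quotient.lift (fun x => perp (F := F) (AddAction.stabilizer W x)) (by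
    rintro x y ⟨u, rfl⟩
    show perp _ = perp _
    rw [stabilizer_vadd])

lemma operp_mk (x : Ω) :
    operp F (Quotient.mk'' x) = perp (F := F) (AddAction.stabilizer W x) := rfl

variable [Finite W] [Finite Ω]

theorem dichotomy (hd : 2 ≤ finrank F W)
    (heq : ∀ (χ : Dual F W) (a : W), χ a = 0 →
      ∃ σ : Equiv.Perm Ω, ∀ (w : W) (x : Ω), σ (w +ᵥ x) = (w + χ w • a) +ᵥ σ x)
    (hsmall : (Nat.card F - 1) * Nat.card Ω ≤ Nat.card F * (Nat.card W - 1))
    (hmove : ∃ (w : W) (x : Ω), w +ᵥ x ≠ x) :
    ((∀ x : Ω, AddAction.stabilizer W x = ⊥ ∨ AddAction.stabilizer W x = ⊤) ∧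
      ∀ x y : Ω, AddAction.stabilizer W x = ⊥ → AddAction.stabilizer W y = ⊥ →
        ∃ w : W, w +ᵥ x = y) ∨
      ∀ x : Ω, ∃ l : Dual F W, l ≠ 0 ∧ ∀ w, w ∈ AddAction.stabilizer W x ↔ l w = 0 := by
  classical
  haveI := finite_dual (F := F) (W := W)
  haveI : FiniteDimensional F W := Module.Finite.of_finite
  letI := Fintype.ofFinite (Dual F W)
  let O := AddAction.orbitRel.Quotient W Ω
  letI := Fintype.ofFinite O
  obtain ⟨w₁, x₁, hx₁⟩ := hmove
  haveI : Nonempty O := ⟨Quotient.mk'' x₁⟩
  set P : O → AddSubgroup (Dual F W) := operp F with hP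
  -- total size
  have hm : Nat.card Ω = ∑ o : O, Nat.card (P o) := by
    rw [Nat.card_congr (AddAction.selfEquivSigmaOrbits W Ω), Nat.card_sigma]
    refine Finset.sum_congr rfl fun o _ => ?_
    obtain ⟨x, rfl⟩ := Quotient.mk''_surjective o
    rw [hP, operp_mk]
    have h1 := AddSubgroup.index_mul_card (AddAction.stabilizer W x)
    have h2 := card_mul_card_perp (F := F) (AddAction.stabilizer W x)
    rw [AddAction.index_stabilizer, mul_comm] at h1
    have h3 : Nat.card (perp (F := F) (AddAction.stabilizer W x))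
        = (AddAction.orbit W x).ncard :=
      Nat.eq_of_mul_eq_mul_left Nat.card_pos (h2.trans h1.symm)
    rw [h3, ← Nat.card_coe_set_eq]
    exact Nat.card_congr (Equiv.setCongr
      (AddAction.orbit_eq_iff.2 (Quotient.exact (Quotient.out_eq (Quotient.mk'' x : O)))))
  -- the induced permutations of the orbits
  have hind : ∀ (χ : Dual F W) (a : W), χ a = 0 → ∃ π : Equiv.Perm O,
      ∀ (o : O) (l : Dual F W), l ∈ P (π o) ↔ l + l a • χ ∈ P o := by
    intro χ a ha
    obtain ⟨σ, hσ⟩ := heq χ a ha
    have hT : ∀ v, (v - χ v • a) + χ (v - χ v • a) • a = v := fun v => by simp [ha]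
    have hrel : ∀ x y, AddAction.orbitRel W Ω x y ↔ AddAction.orbitRel W Ω (σ x) (σ y) := by
      intro x y
      rw [AddAction.orbitRel_apply, AddAction.orbitRel_apply, AddAction.mem_orbit_iff,
        AddAction.mem_orbit_iff]
      constructor
      · rintro ⟨u, rfl⟩; exact ⟨_, (hσ u y).symm⟩
      · rintro ⟨v, hv⟩
        exact ⟨v - χ v • a, σ.injective (by rw [hσ, hT, hv])⟩
    refine ⟨Quotient.congr σ hrel, fun o l => ?_⟩
    obtain ⟨x, rfl⟩ := Quotient.mk''_surjective o
    rw [show Quotient.congr σ hrel (Quotient.mk'' x : O) = Quotient.mk'' (σ x) from rfl, hP,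
      operp_mk, operp_mk, mem_perp, mem_perp]
    have hl : ∀ w, (l + l a • χ) w = l (w + χ w • a) := fun w => by simp [mul_comm]
    constructor
    · intro h w hw
      rw [hl]
      refine h _ ?_
      rw [AddAction.mem_stabilizer_iff] at hw ⊢
      rw [← hσ, hw]
    · intro h v hv
      have := h (v - χ v • a) (by
        rw [AddAction.mem_stabilizer_iff] at hv ⊢
        exact σ.injective (by rw [hσ, hT, hv]))
      rwa [hl, hT] at this
  -- multiplicities
  set k : Dual F W → ℕ := fun l => (Finset.univ.filter (fun o => l ∈ P o)).card with hk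
  have hdc : ∑ l, k l = ∑ o : O, Nat.card (P o) := by
    simp only [hk, Finset.card_filter]
    rw [Finset.sum_comm]
    refine Finset.sum_congr rfl fun o _ => ?_
    rw [← Finset.card_filter, Nat.card_eq_fintype_card, ← Fintype.card_subtype]
  have hk0 : k 0 = Fintype.card O := by
    show (Finset.univ.filter (fun o => (0 : Dual F W) ∈ P o)).card = _
    rw [Finset.filter_true_of_mem (fun o _ => zero_mem _), Finset.card_univ]
  obtain ⟨l₀, hl₀⟩ : ∃ l : Dual F W, l ≠ 0 := by
    obtain ⟨n, hn⟩ := exists_independent hd (0 : Dual F W)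
    exact ⟨n, by simpa using hn 1⟩
  have hconst : ∀ l, l ≠ 0 → k l = k l₀ := by
    intro m hm
    refine dual_induction hd (P := fun l => k l = k l₀) ?_ hl₀ rfl hm
    intro l a χ ha hl
    obtain ⟨π, hπ⟩ := hind χ a ha
    rw [← hl]
    refine Finset.card_equiv π fun o => ?_
    simp [hπ]
  have hksum : Fintype.card O + k l₀ * (Nat.card W - 1) = Nat.card Ω := by
    rw [hm, ← hdc, ← Finset.add_sum_erase _ _ (Finset.mem_univ (0 : Dual F W)), hk0,
      Finset.sum_congr rfl (fun l hl => hconst l (Finset.ne_of_mem_erase hl)), Finset.sum_const,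
      Finset.card_erase_of_mem (Finset.mem_univ _), Finset.card_univ, ← Nat.card_eq_fintype_card,
      ← Nat.card_eq_fintype_card (α := Dual F W), card_dual, smul_eq_mul, mul_comm]
  have hq : 2 ≤ Nat.card F := Finite.one_lt_card
  have hO : 1 ≤ Fintype.card O := Fintype.card_pos
  have hk1 : k l₀ = 1 := by
    have hle : k l₀ ≤ 1 := by
      by_contra h
      push Not at h
      have h1 : 2 * (Nat.card W - 1) + 1 ≤ Nat.card Ω := by
        have := Nat.mul_le_mul_right (Nat.card W - 1) h
        omega
      have h2 := (Nat.mul_le_mul_left (Nat.card F - 1) h1).trans hsmall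
      obtain ⟨r, hr⟩ : ∃ r, Nat.card F = r + 2 := ⟨_, (Nat.sub_add_cancel hq).symm⟩
      rw [hr, Nat.add_sub_assoc (by norm_num), mul_add, mul_one, ← mul_assoc] at h2
      nlinarith
    have hne : k l₀ ≠ 0 := by
      intro h0
      have hall : ∀ o, P o = ⊥ := fun o => by
        refine (AddSubgroup.eq_bot_iff_forall _).2 fun l hl => ?_
        by_contra hne
        have : 0 < k l := Finset.card_pos.2 ⟨o, by simp [hl]⟩
        rw [hconst l hne, h0] at this
        exact lt_irrefl 0 this
      have := eq_top_of_perp (hall (Quotient.mk'' x₁))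
      exact hx₁ (AddAction.mem_stabilizer_iff.1 (this ▸ AddSubgroup.mem_top w₁))
    omega
  have huniq : ∀ l, l ≠ 0 → ∀ o o', l ∈ P o → l ∈ P o' → o = o' := fun l hl o o' h h' =>
    Finset.card_le_one.1 (le_of_eq ((hconst l hl).trans hk1)) o (by simp [h]) o' (by simp [h'])
  -- the two shapes
  by_cases hind2 : ∃ o, ∃ l₁ ∈ P o, ∃ l₂ ∈ P o, l₁ ≠ 0 ∧ ∀ c : F, l₂ ≠ c • l₁
  · left
    obtain ⟨o, l₁, h₁, l₂, h₂, hl₁, hl₂⟩ := hind2
    have hl₂0 : l₂ ≠ 0 := by simpa using hl₂ 0
    have step : ∀ l l' : Dual F W, l ≠ 0 → l ∈ P o → l' ∈ P o → ∀ a : W, l a = 0 → l' a = 1 →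
        ∀ χ : Dual F W, χ a = 0 → χ ∈ P o := by
      intro l l' hl hlP hl'P a hla hl'a χ hχ
      obtain ⟨π, hπ⟩ := hind χ a hχ
      have hfix : π o = o := huniq l hl _ _ ((hπ o l).2 (by simpa [hla] using hlP)) hlP
      have h3 : l' + χ ∈ P o := by
        simpa [hl'a, hfix] using (hπ o l').1 (by rw [hfix]; exact hl'P)
      simpa using sub_mem h3 hl'P
    obtain ⟨a, ha1, ha2⟩ : ∃ a, l₁ a = 0 ∧ l₂ a = 1 := by
      by_contra h
      push Not at h
      obtain ⟨a0, ha0⟩ : ∃ a, l₁ a = 1 := LinearMap.surjective hl₁ 1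
      refine hl₂ (l₂ a0) (LinearMap.ext fun x => ?_)
      by_contra hx
      refine h ((l₂ (x - l₁ x • a0))⁻¹ • (x - l₁ x • a0)) (by simp [ha0]) ?_
      rw [map_smul, smul_eq_mul, inv_mul_cancel₀]
      simpa [sub_eq_zero, mul_comm] using hx
    obtain ⟨b, hb2, hb1⟩ : ∃ b, l₂ b = 0 ∧ l₁ b = 1 := by
      obtain ⟨a0, ha0⟩ : ∃ a, l₁ a = 1 := LinearMap.surjective hl₁ 1
      exact ⟨a0 - l₂ a0 • a, by simp [ha2], by simp [ha0, ha1]⟩
    have htop : P o = ⊤ := by
      refine (AddSubgroup.eq_top_iff' _).2 fun χ => ?_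
      have h3 : χ - χ a • l₂ ∈ P o :=
        step l₁ l₂ hl₁ h₁ h₂ a ha1 ha2 _ (by simp [ha2])
      have h4 : χ a • l₂ ∈ P o := step l₂ l₁ hl₂0 h₂ h₁ b hb2 hb1 _ (by simp [hb2])
      simpa using add_mem h3 h4
    have hoth : ∀ o', o' ≠ o → P o' = ⊥ := fun o' ho' => by
      refine (AddSubgroup.eq_bot_iff_forall _).2 fun l hl => ?_
      by_contra hne
      exact ho' (huniq l hne _ _ hl (htop ▸ AddSubgroup.mem_top l))
    have hbot : ∀ x : Ω, AddAction.stabilizer W x = ⊥ → (Quotient.mk'' x : O) = o := by
      intro x hx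
      by_contra hne
      have h5 := eq_top_of_perp (hoth _ hne)
      rw [hx] at h5
      have h6 : (w₁ : W) ∈ (⊥ : AddSubgroup W) := h5 ▸ AddSubgroup.mem_top w₁
      rw [AddSubgroup.mem_bot] at h6
      exact hx₁ (by rw [h6, zero_vadd])
    refine ⟨fun x => ?_, fun x y hx hy => ?_⟩
    · by_cases h : (Quotient.mk'' x : O) = o
      · exact Or.inl (eq_bot_of_perp (F := F) (by rw [← operp_mk, h]; exact htop))
      · exact Or.inr (eq_top_of_perp (hoth _ h))
    · exact AddAction.mem_orbit_iff.1 (Quotient.exact ((hbot y hy).trans (hbot x hx).symm))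
  · right
    push Not at hind2
    have hcard : ∀ o, Nat.card (P o) ≤ Nat.card F := by
      intro o
      by_cases h : ∃ l ∈ P o, l ≠ 0
      · obtain ⟨l, hl, hne⟩ := h
        choose c hc using fun l' : P o => hind2 o l hl l' l'.2 hne
        exact Nat.card_le_card_of_injective c fun u v huv => Subtype.ext (by rw [hc u, hc v, huv])
      · push Not at h
        rw [(AddSubgroup.eq_bot_iff_forall _).2 h, AddSubgroup.card_bot]
        omega
    have hsum : ∑ o : O, (Nat.card (P o) - 1) = Nat.card W - 1 := by
      have h1 : ∑ o : O, Nat.card (P o) = ∑ o : O, (Nat.card (P o) - 1) + Fintype.card O := by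
        rw [Fintype.card, ← smul_eq_mul (Finset.univ : Finset O).card 1 |>.trans (mul_one _),
          ← Finset.sum_const, ← Finset.sum_add_distrib]
        exact Finset.sum_congr rfl fun o _ => (Nat.sub_add_cancel Nat.card_pos).symm
      rw [hk1, one_mul, hm, h1] at hksum
      omega
    have hall : ∀ o, Nat.card (P o) = Nat.card F := by
      by_contra h
      push Not at h
      obtain ⟨o₀, ho₀⟩ := h
      have hlt : ∑ o : O, Nat.card F * (Nat.card (P o) - 1)
          < ∑ o : O, (Nat.card F - 1) * Nat.card (P o) := by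
        have key : ∀ o, Nat.card F * (Nat.card (P o) - 1) + (Nat.card F - Nat.card (P o))
            = (Nat.card F - 1) * Nat.card (P o) := fun o => by
          have h1 : 1 ≤ Nat.card (P o) := Nat.card_pos
          have h2 := hcard o
          zify [h1, h2, (by omega : 1 ≤ Nat.card F)]
          ring
        refine Finset.sum_lt_sum (fun o _ => by rw [← key o]; exact Nat.le_add_right _ _)
          ⟨o₀, Finset.mem_univ _, ?_⟩
        rw [← key o₀]
        have := hcard o₀
        omega
      rw [← Finset.mul_sum, hsum, ← Finset.mul_sum, ← hm] at hlt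
      omega
    intro x
    set R := AddAction.stabilizer W x with hR
    have hPR : Nat.card (perp (F := F) R) = Nat.card F := hall (Quotient.mk'' x)
    obtain ⟨l, hl, hne⟩ : ∃ l ∈ perp (F := F) R, l ≠ 0 := by
      by_contra h
      push Not at h
      rw [(AddSubgroup.eq_bot_iff_forall _).2 h, AddSubgroup.card_bot] at hPR
      omega
    refine ⟨l, hne, ?_⟩
    have hinj : Function.Injective fun c : F => c • l := fun c d h => by
      obtain ⟨a, ha⟩ := LinearMap.surjective hne 1
      simpa [ha] using LinearMap.congr_fun h a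
    choose c hc using fun l' : perp (F := F) R => hind2 (Quotient.mk'' x) l hl l' l'.2 hne
    have hcinj : Function.Injective c := fun u v huv => Subtype.ext (by rw [hc u, hc v, huv])
    have hcsur : Function.Surjective c :=
      (((Nat.bijective_iff_injective_and_card c).2 ⟨hcinj, hPR⟩)).surjective
    have hmul : ∀ d : F, d • l ∈ perp (F := F) R := fun d => by
      obtain ⟨u, rfl⟩ := hcsur d
      rw [← hc u]; exact u.2
    have hle : R ≤ (LinearMap.ker l).toAddSubgroup := fun w hw => by
      refine eq_zero_of_psi fun d => ?_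
      simpa using hmul d w hw
    have hker : Nat.card (LinearMap.ker l).toAddSubgroup * Nat.card F = Nat.card W := by
      rw [← AddSubgroup.card_mul_index (LinearMap.ker l).toAddSubgroup, AddSubgroup.index]
      congr 1
      exact (Nat.card_congr (l.quotKerEquivOfSurjective (LinearMap.surjective hne)).toEquiv).symm
    have hRc := card_mul_card_perp (F := F) R
    rw [hPR, ← hker] at hRc
    have heqR := AddSubgroup.eq_of_le_of_card_ge hle
      (le_of_eq (Nat.eq_of_mul_eq_mul_right Nat.card_pos hRc).symm)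
    intro w
    rw [heqR]
    rfl

end Dichotomy

end Cfsg.Agent.MinIndexPSL
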