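/-
A subgroup of small index in `SL` meets every group of transvections with a given axis either in
all or nothing (type one), or in a hyperplane (type two); inverse transpose gives the same for
transvections with a given centre.

Main results: `TypeOne`, `TypeTwo`, `types`, `dualAut`, `DualOne`, `DualTwo`.
-/
import Cfsg.Agent.Lib.MinIndexPSL.Orbits
import Cfsg.Agent.Lib.Transvect.Basic

set_option autoImplicit false
set_option linter.unusedSectionVars false

namespace Cfsg.Agent.MinIndexPSL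

open Module Matrix Transvect
open scoped MatrixGroups

variable {ι : Type} [Fintype ι] [DecidableEq ι] {F : Type*} [Field F]

local notation "V" => (ι → F)

attribute [-simp] app_apply

variable (ι F) in
/-- The special linear group inside `GL`. -/
abbrev SLG : Subgroup (GL ι F) := Cfsg.Geo.specialLinear ι F

lemma tv_addv {v w : V} {φ : Dual F V} (hv : φ v = 0) (hw : φ w = 0) :
    tv (v + w) φ = tv v φ * tv w φ := by
  refine gl_ext fun x => ?_
  rw [tv_apply (by simp [hv, hw]), map_mul, LinearEquiv.mul_apply, tv_apply hw, tv_apply hv]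
  simp [hw, smul_add, add_assoc, add_comm (φ x • v)]

lemma tv_zerov (φ : Dual F V) : tv (0 : V) φ = 1 :=
  gl_ext fun x => by rw [tv_apply (map_zero φ)]; simp

lemma tv_negv {v : V} {φ : Dual F V} (hv : φ v = 0) : tv (-v) φ = (tv v φ)⁻¹ :=
  (inv_eq_of_mul_eq_one_right
    (by rw [← tv_addv hv (by simp [hv]), add_neg_cancel, tv_zerov])).symm

lemma eq_of_tv_eq_one {v : V} {φ : Dual F V} (hv : φ v = 0) (h : tv v φ = 1) :
    φ = 0 ∨ v = 0 := by
  by_cases hφ : φ = 0
  · exact Or.inl hφ
  · obtain ⟨x, hx⟩ := LinearMap.surjective hφ 1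
    right
    have h1 : app (tv v φ) x = app (1 : GL ι F) x := by rw [h]
    rw [tv_apply hv] at h1
    simpa [hx] using h1

lemma tv_conj_inv (g : GL ι F) {w : V} {φ : Dual F V} (hw : φ w = 0) :
    g⁻¹ * tv w φ * g = tv (app g⁻¹ w) (φ ∘ₗ (app g).toLinearMap) := by
  have := tv_conj hw g⁻¹
  rwa [inv_inv] at this

/-- The hypothesis: `M` does not contain `SL` and has index less than the number of points. -/
structure Small (M : Subgroup (GL ι F)) : Prop where
  card : 3 ≤ Fintype.card ι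
  not_le : ¬ SLG ι F ≤ M
  small : (Nat.card F - 1) * M.relIndex (SLG ι F)
    ≤ Nat.card F * (Nat.card F ^ (Fintype.card ι - 1) - 1)

/-- Type one. -/
def TypeOne (M : Subgroup (GL ι F)) : Prop :=
  (∀ φ : Dual F V, φ ≠ 0 →
    (∀ v : V, φ v = 0 → tv v φ ∈ M) ∨ (∀ v : V, φ v = 0 → tv v φ ∈ M → v = 0)) ∧
  ((∀ (v : V) (φ : Dual F V), φ v = 0 → tv v φ ∈ M → v = 0 ∨ φ = 0) →
    ∀ φ : Dual F V, φ ≠ 0 → ∀ g ∈ SLG ι F, ∃ w : V, φ w = 0 ∧ tv w φ * g ∈ M)

/-- Type two. -/
def TypeTwo (M : Subgroup (GL ι F)) : Prop :=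
  ∀ φ : Dual F V, φ ≠ 0 → ∃ l : Dual F V, (∀ c : F, l ≠ c • φ) ∧
    ∀ v : V, φ v = 0 → (tv v φ ∈ M ↔ l v = 0)

section Translate

variable [Finite F]

/-- The transvections with axis `φ` as a homomorphism. -/
noncomputable def axisHom (φ : Dual F V) :
    Multiplicative (LinearMap.ker φ) →* SLG ι F where
  toFun w := ⟨tv (Multiplicative.toAdd w : LinearMap.ker φ).1 φ, tv_mem_sl _ _⟩
  map_one' := Subtype.ext (by simp [tv_zerov])
  map_mul' u w := Subtype.ext (by
    simp only [toAdd_mul, Submodule.coe_add, Subgroup.coe_mul]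
    exact tv_addv (LinearMap.mem_ker.1 (Multiplicative.toAdd u).2)
      (LinearMap.mem_ker.1 (Multiplicative.toAdd w).2))

lemma exists_comp_eq (hn : 2 ≤ Fintype.card ι) {φ₀ φ : Dual F V} (h0 : φ₀ ≠ 0) (h : φ ≠ 0) :
    ∃ g ∈ SLG ι F, φ = φ₀ ∘ₗ (app g).toLinearMap := by
  refine dual_induction (W := V) (by simpa using hn)
    (P := fun φ => ∃ g ∈ SLG ι F, φ = φ₀ ∘ₗ (app g).toLinearMap) ?_ h0
    ⟨1, one_mem _, LinearMap.ext fun x => by simp⟩ h
  rintro l a χ ha ⟨g, hg, rfl⟩
  refine ⟨g * tv a χ, mul_mem hg (tv_mem_sl _ _), LinearMap.ext fun x => ?_⟩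
  simp only [LinearMap.comp_apply, LinearEquiv.coe_coe, map_mul, LinearEquiv.mul_apply,
    tv_apply ha, LinearMap.add_apply, LinearMap.smul_apply, smul_eq_mul, map_add, map_smul]
  ring

theorem types {M : Subgroup (GL ι F)} (hM : Small M) : TypeOne M ∨ TypeTwo M := by
  have hn := hM.card
  obtain ⟨i₀⟩ : Nonempty ι := Fintype.card_pos_iff.1 (by omega)
  set φ₀ : Dual F V := LinearMap.proj i₀ with hφ₀
  have hφ0 : φ₀ ≠ 0 := fun h => by
    simpa [hφ₀] using LinearMap.congr_fun h (Pi.single i₀ 1)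
  set u : V := Pi.single i₀ 1 with hu
  have hφu : φ₀ u = 1 := by simp [hφ₀, hu]
  haveI : Finite (GL ι F) := Finite.of_injective _ Units.val_injective
  set G := SLG ι F with hG
  let Ω := G ⧸ M.subgroupOf G
  let W := LinearMap.ker φ₀
  letI : AddAction W Ω :=
    { vadd := fun w x => axisHom φ₀ (Multiplicative.ofAdd w) • x
      zero_vadd := fun x => by
        show axisHom φ₀ (Multiplicative.ofAdd (0 : W)) • x = x
        rw [ofAdd_zero, map_one, one_smul]
      add_vadd := fun a b x => by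
        show axisHom φ₀ (Multiplicative.ofAdd (a + b)) • x
          = axisHom φ₀ (Multiplicative.ofAdd a) • axisHom φ₀ (Multiplicative.ofAdd b) • x
        rw [ofAdd_add, map_mul, mul_smul] }
  have hvadd : ∀ (w : W) (g : G),
      w +ᵥ (QuotientGroup.mk g : Ω) = QuotientGroup.mk (axisHom φ₀ (Multiplicative.ofAdd w) * g) :=
    fun w g => rfl
  -- stabilisers
  have hstab : ∀ (w : W) (g : G), w ∈ AddAction.stabilizer W (QuotientGroup.mk g : Ω) ↔
      tv (app (g : GL ι F)⁻¹ (w : V)) (φ₀ ∘ₗ (app (g : GL ι F)).toLinearMap) ∈ M := by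
    intro w g
    rw [AddAction.mem_stabilizer_iff, hvadd, QuotientGroup.eq, Subgroup.mem_subgroupOf]
    simp only [axisHom, Subgroup.coe_mul, InvMemClass.coe_inv, _root_.mul_inv_rev, MonoidHom.coe_mk,
      OneHom.coe_mk, toAdd_ofAdd]
    rw [← M.inv_mem_iff, _root_.mul_inv_rev, _root_.mul_inv_rev, inv_inv, inv_inv, ← mul_assoc,
      tv_conj_inv _ (LinearMap.mem_ker.1 w.2)]
  -- dimension of the axis
  have hdim : finrank F W + 1 = Fintype.card ι := by
    have h1 := LinearMap.finrank_range_add_finrank_ker φ₀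
    rw [LinearMap.range_eq_top.2 (LinearMap.surjective hφ0), finrank_top, finrank_self] at h1
    simp only [finrank_fintype_fun_eq_card] at h1
    change finrank F (LinearMap.ker φ₀) + 1 = Fintype.card ι; omega
  have hcardW : Nat.card W = Nat.card F ^ (Fintype.card ι - 1) := by
    rw [Module.natCard_eq_pow_finrank (K := F)]
    congr 1
    exact (Nat.sub_eq_of_eq_add hdim.symm).symm
  have hproj : ∀ v, φ₀ (v - φ₀ v • u) = 0 := fun v => by simp [hφu]
  let pr : V →ₗ[F] W :=
    LinearMap.codRestrict W (LinearMap.id - φ₀.smulRight u)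
      (fun v => LinearMap.mem_ker.2 (hproj v))
  have hpr : ∀ w : W, pr w = w := fun w => Subtype.ext (by
    simp [pr, LinearMap.mem_ker.1 w.2])
  -- the action is not trivial
  by_cases hmove : ∀ (w : W) (x : Ω), w +ᵥ x = x
  · refine absurd (sl_le_of_tv M fun v φ hφv => ?_) hM.not_le
    by_cases hφ : φ = 0
    · rw [hφ, tv_zero]; exact one_mem M
    obtain ⟨g, hg, rfl⟩ := exists_comp_eq (by omega) hφ0 hφ
    have := (hstab ⟨app g v, LinearMap.mem_ker.2 (by simpa using hφv)⟩ ⟨g, hg⟩).1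
      (AddAction.mem_stabilizer_iff.2 (hmove _ _))
    simpa using this
  push Not at hmove
  have heq : ∀ (χ : Dual F W) (a : W), χ a = 0 →
      ∃ σ : Equiv.Perm Ω, ∀ (w : W) (x : Ω), σ (w +ᵥ x) = (w + χ w • a) +ᵥ σ x := by
    intro χ a ha
    set χ' : Dual F V := χ ∘ₗ pr with hχ'
    have hχa : χ' (a : V) = 0 := by rw [hχ', LinearMap.comp_apply, hpr, ha]
    let g : G := ⟨tv (a : V) χ', tv_mem_sl _ _⟩
    refine ⟨MulAction.toPerm g, fun w x => ?_⟩
    obtain ⟨y, rfl⟩ := QuotientGroup.mk_surjective x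
    rw [hvadd, MulAction.toPerm_apply, MulAction.toPerm_apply]
    show (QuotientGroup.mk (g * (axisHom φ₀ (Multiplicative.ofAdd w) * y)) : Ω)
      = (w + χ w • a) +ᵥ (QuotientGroup.mk (g * y) : Ω)
    rw [hvadd, ← mul_assoc, ← mul_assoc]
    congr 2
    apply Subtype.ext
    show tv (a : V) χ' * tv (w : V) φ₀ = tv (((w + χ w • a : W)) : V) φ₀ * tv (a : V) χ'
    rw [← mul_inv_eq_iff_eq_mul, tv_conj (LinearMap.mem_ker.1 w.2)]
    congr 1
    · rw [tv_apply hχa, hχ', LinearMap.comp_apply, hpr]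
      rfl
    · refine LinearMap.ext fun z => ?_
      rw [LinearMap.comp_apply, LinearEquiv.coe_coe, tv_inv hχa, tv_apply (by simp [hχa]),
        map_add, map_smul, LinearMap.mem_ker.1 a.2]
      simp
  haveI : Finite W := inferInstance
  have hsmall : (Nat.card F - 1) * Nat.card Ω ≤ Nat.card F * (Nat.card W - 1) := by
    rw [hcardW]; exact hM.small
  rcases dichotomy (F := F) (W := W) (Ω := Ω) (by omega) heq hsmall hmove with
    ⟨hfix, hone⟩ | htwo
  · refine Or.inl ⟨fun φ hφ => ?_, fun hfree φ hφ g hg => ?_⟩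
    · obtain ⟨g, hg, rfl⟩ := exists_comp_eq (by omega) hφ0 hφ
      have key : ∀ (v : V) (hv : φ₀ (app g v) = 0),
          ((⟨app g v, LinearMap.mem_ker.2 hv⟩ : W) ∈
            AddAction.stabilizer W (QuotientGroup.mk ⟨g, hg⟩ : Ω) ↔
            tv v (φ₀ ∘ₗ (app g).toLinearMap) ∈ M) := fun v hv => by
        rw [hstab]; simp
      rcases hfix (QuotientGroup.mk ⟨g, hg⟩) with h | h
      · refine Or.inr fun v hv hvM => ?_
        have h1 := (key v hv).2 hvM
        rw [h, AddSubgroup.mem_bot] at h1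
        have h2 : app g v = 0 := congrArg Subtype.val h1
        simpa using h2
      · refine Or.inl fun v hv => (key v hv).1 ?_
        rw [h]; exact AddSubgroup.mem_top _
    · -- regular
      have hbot : ∀ x : Ω, AddAction.stabilizer W x = ⊥ := by
        intro x
        obtain ⟨y, rfl⟩ := QuotientGroup.mk_surjective x
        refine (AddSubgroup.eq_bot_iff_forall _).2 fun w hw => Subtype.ext ?_
        rcases hfree _ _ (by simp [LinearMap.mem_ker.1 w.2]) ((hstab w y).1 hw) with h | h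
        · simpa using h
        · exfalso
          refine hφ0 (LinearMap.ext fun z => ?_)
          simpa using LinearMap.congr_fun h (app (y : GL ι F)⁻¹ z)
      -- move the axis to `φ₀`
      obtain ⟨h, hh, rfl⟩ := exists_comp_eq (by omega) hφ0 hφ
      obtain ⟨w, hw⟩ := hone (QuotientGroup.mk ⟨h, hh⟩)
        (QuotientGroup.mk ⟨h * g, mul_mem hh hg⟩) (hbot _) (hbot _)
      rw [hvadd, QuotientGroup.eq, Subgroup.mem_subgroupOf] at hw
      simp only [axisHom, Subgroup.coe_mul, InvMemClass.coe_inv, _root_.mul_inv_rev, MonoidHom.coe_mk,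
        OneHom.coe_mk, toAdd_ofAdd] at hw
      rw [← M.inv_mem_iff, _root_.mul_inv_rev, _root_.mul_inv_rev, _root_.mul_inv_rev, inv_inv, inv_inv] at hw
      have hwk := LinearMap.mem_ker.1 w.2
      refine ⟨app h⁻¹ ((-w : W) : V), by simp [hwk], ?_⟩
      have e : tv (app h⁻¹ ((-w : W) : V)) (φ₀ ∘ₗ (app h).toLinearMap) = h⁻¹ * (tv (w : V) φ₀)⁻¹ * h := by
        rw [← tv_negv hwk, tv_conj_inv _ (by simp [hwk])]
        rfl
      rw [e]
      have := M.inv_mem hw
      simp only [_root_.mul_inv_rev, inv_inv] at this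
      simpa [mul_assoc] using this
  · refine Or.inr fun φ hφ => ?_
    obtain ⟨g, hg, rfl⟩ := exists_comp_eq (by omega) hφ0 hφ
    obtain ⟨l, hl, hlR⟩ := htwo (QuotientGroup.mk ⟨g, hg⟩)
    refine ⟨(l ∘ₗ pr) ∘ₗ (app g).toLinearMap, fun c hc => hl (LinearMap.ext fun w => ?_),
      fun v hv => ?_⟩
    · have := LinearMap.congr_fun hc (app g⁻¹ (w : V))
      simp only [LinearMap.comp_apply, LinearEquiv.coe_coe, app_app_inv, hpr,
        LinearMap.smul_apply, LinearMap.mem_ker.1 w.2, smul_zero] at this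
      simpa using this
    · have hv' : app g v ∈ W := LinearMap.mem_ker.2 (by simpa using hv)
      have h1 := hlR ⟨app g v, hv'⟩
      rw [hstab] at h1
      simp only [app_inv_app] at h1
      rw [h1]
      simp only [LinearMap.comp_apply, LinearEquiv.coe_coe]
      rw [show pr (app g v) = ⟨app g v, hv'⟩ from hpr ⟨app g v, hv'⟩]

end Translate

/-! ### Inverse transpose -/

/-- Inverse transpose. -/
def dualAut : GL ι F →* GL ι F where
  toFun g :=
    { val := ((g⁻¹ : GL ι F) : Matrix ι ι F)ᵀ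
      inv := (g : Matrix ι ι F)ᵀ
      val_inv := by rw [← Matrix.transpose_mul, ← Units.val_mul, mul_inv_cancel, Units.val_one,
        Matrix.transpose_one]
      inv_val := by rw [← Matrix.transpose_mul, ← Units.val_mul, inv_mul_cancel, Units.val_one,
        Matrix.transpose_one] }
  map_one' := Units.ext (by simp)
  map_mul' g h := Units.ext (by simp [Matrix.transpose_mul])

lemma dualAut_val (g : GL ι F) :
    (dualAut g : Matrix ι ι F) = ((g⁻¹ : GL ι F) : Matrix ι ι F)ᵀ := rfl

lemma dualAut_dualAut (g : GL ι F) : dualAut (dualAut g) = g := by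
  apply Units.ext
  rw [dualAut_val, ← map_inv, dualAut_val, inv_inv, Matrix.transpose_transpose]

lemma dualAut_mem_sl {g : GL ι F} (hg : g ∈ SLG ι F) : dualAut g ∈ SLG ι F := by
  have := mem_sl_iff.1 ((SLG ι F).inv_mem hg)
  rw [mem_sl_iff, dualAut_val, Matrix.det_transpose, this]

/-- The functional of a vector. -/
def dot : V →ₗ[F] Dual F V :=
  LinearMap.mk₂ F (fun r x => r ⬝ᵥ x) (fun a b x => add_dotProduct a b x)
    (fun c a x => smul_dotProduct c a x) (fun a x y => dotProduct_add a x y)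
    (fun c a x => dotProduct_smul c a x)

@[simp] lemma dot_apply (r x : V) : dot r x = r ⬝ᵥ x := rfl

/-- The vector of a functional. -/
def row (φ : Dual F V) : V := fun j => φ (Pi.single j 1)

lemma dot_row (φ : Dual F V) : dot (row φ) = φ := by
  refine LinearMap.ext fun x => ?_
  conv_rhs => rw [pi_eq_sum_univ' x, map_sum]
  simp [row, dotProduct, mul_comm]

lemma row_dot (r : V) : row (dot r) = r := funext fun j => by simp [row]

lemma dot_eq_zero {r : V} : dot r = 0 ↔ r = 0 := by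
  constructor
  · intro h; rw [← row_dot r, h]; funext j; simp [row]
  · rintro rfl; exact map_zero _

lemma dot_comm (r x : V) : dot r x = dot x r := dotProduct_comm r x

lemma dualAut_tv {v r : V} (h : dot r v = 0) :
    dualAut (tv v (dot r)) = (tv r (dot v))⁻¹ := by
  have h' : dot v r = 0 := by rw [dot_comm, h]
  apply Units.ext
  rw [dualAut_val, tv_inv h, tv_inv h', tv_val (by simp [← dot_apply, h]),
    tv_val (by simp [← dot_apply, h']), tmat, tmat, Matrix.transpose_add, Matrix.transpose_one,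
    Matrix.transpose_vecMulVec]
  congr 1
  ext i j
  simp [Matrix.vecMulVec_apply, mul_comm]

/-- The image of `M` under inverse transpose. -/
def dualSub (M : Subgroup (GL ι F)) : Subgroup (GL ι F) := M.comap dualAut

lemma mem_dualSub {M : Subgroup (GL ι F)} {v r : V} (h : dot r v = 0) :
    tv v (dot r) ∈ dualSub M ↔ tv r (dot v) ∈ M := by
  rw [dualSub, Subgroup.mem_comap, dualAut_tv h, Subgroup.inv_mem_iff]

lemma dualSub_dualSub (M : Subgroup (GL ι F)) : dualSub (dualSub M) = M := by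
  ext g; simp [dualSub, dualAut_dualAut]

lemma comap_sl : (SLG ι F).comap dualAut = SLG ι F := by
  ext g
  exact ⟨fun h => dualAut_dualAut g ▸ dualAut_mem_sl h, dualAut_mem_sl⟩

lemma Small.dual {M : Subgroup (GL ι F)} (hM : Small M) : Small (dualSub M) where
  card := hM.card
  not_le h := hM.not_le fun g hg => by
    simpa [dualSub, dualAut_dualAut] using h (dualAut_mem_sl hg)
  small := by
    have hsurj : Function.Surjective (dualAut (ι := ι) (F := F)) := fun g =>
      ⟨_, dualAut_dualAut g⟩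
    have h1 : (dualSub M).relIndex (SLG ι F) = M.relIndex (SLG ι F) := by
      rw [dualSub, Subgroup.relIndex_comap]
      congr 1
      conv_lhs => rw [← comap_sl]
      rw [Subgroup.map_comap_eq_self_of_surjective hsurj]
    rw [h1]; exact hM.small

/-- Type one for transvections with a given centre. -/
def DualOne (M : Subgroup (GL ι F)) : Prop :=
  (∀ v : V, v ≠ 0 →
    (∀ φ : Dual F V, φ v = 0 → tv v φ ∈ M) ∨ (∀ φ : Dual F V, φ v = 0 → tv v φ ∈ M → φ = 0)) ∧
  ((∀ (v : V) (φ : Dual F V), φ v = 0 → tv v φ ∈ M → v = 0 ∨ φ = 0) →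
    ∀ v : V, v ≠ 0 → ∀ g ∈ SLG ι F, ∃ φ : Dual F V, φ v = 0 ∧ tv v φ * g ∈ M)

/-- Type two for transvections with a given centre. -/
def DualTwo (M : Subgroup (GL ι F)) : Prop :=
  ∀ v : V, v ≠ 0 → ∃ u : V, (∀ c : F, u ≠ c • v) ∧
    ∀ φ : Dual F V, φ v = 0 → (tv v φ ∈ M ↔ φ u = 0)

lemma TypeOne.dual {M : Subgroup (GL ι F)} (h : TypeOne (dualSub M)) : DualOne M := by
  refine ⟨fun v hv => ?_, fun hfree v hv g hg => ?_⟩
  · have hd : dot v ≠ (0 : Dual F V) := fun h0 => hv (dot_eq_zero.1 h0)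
    rcases h.1 (dot v) hd with h1 | h1
    · refine Or.inl fun φ hφ => ?_
      rw [← dot_row φ] at hφ ⊢
      rw [dot_comm] at hφ
      exact (mem_dualSub hφ).1 (h1 _ hφ)
    · refine Or.inr fun φ hφ hm => ?_
      rw [← dot_row φ] at hφ hm ⊢
      rw [dot_comm] at hφ
      rw [h1 _ hφ ((mem_dualSub hφ).2 hm), map_zero]
  · have hfree' : ∀ (w : V) (φ : Dual F V), φ w = 0 → tv w φ ∈ dualSub M → w = 0 ∨ φ = 0 := by
      intro w φ hw hm
      rw [← dot_row φ] at hw hm ⊢
      have hw' := hw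
      rw [dot_comm] at hw'
      rcases hfree _ _ hw' ((mem_dualSub hw).1 hm) with h1 | h1
      · exact Or.inr (by rw [h1, map_zero])
      · exact Or.inl (dot_eq_zero.1 h1)
    obtain ⟨w, hw, hm⟩ := h.2 hfree' (dot v) (fun h0 => hv (dot_eq_zero.1 h0)) (dualAut g)
      (dualAut_mem_sl hg)
    refine ⟨-dot w, by rw [LinearMap.neg_apply, dot_comm, hw, neg_zero], ?_⟩
    rw [dualSub, Subgroup.mem_comap, map_mul, dualAut_tv hw, dualAut_dualAut,
      tv_inv (by rw [dot_comm]; exact hw)] at hm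
    exact hm

lemma TypeTwo.dual {M : Subgroup (GL ι F)} (h : TypeTwo (dualSub M)) : DualTwo M := by
  intro v hv
  obtain ⟨l, hl, hiff⟩ := h (dot v) (fun h0 => hv (dot_eq_zero.1 h0))
  refine ⟨row l, fun c hc => hl c ?_, fun φ hφ => ?_⟩
  · rw [← dot_row l, hc, map_smul]
  · rw [← dot_row φ] at hφ ⊢
    rw [dot_comm] at hφ
    rw [← mem_dualSub hφ, hiff _ hφ, ← dot_comm, dot_row]

end Cfsg.Agent.MinIndexPSL
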