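/-
The geometry of the transvections in a subgroup of small index of `SL`: only type one on both sides
is possible, and then there is no transvection at all.

Main result: `free`.
-/
import Cfsg.Agent.Lib.MinIndexPSL.Types

set_option autoImplicit false
set_option linter.unusedSectionVars false

namespace Cfsg.Agent.MinIndexPSL

open Module Matrix Transvect
open scoped MatrixGroups

variable {ι : Type} [Fintype ι] [DecidableEq ι] {F : Type*} [Field F]

local notation "V" => (ι → F)

attribute [-simp] app_apply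

lemma exists_ker2 (hn : 3 ≤ Fintype.card ι) (φ ψ : Dual F V) :
    ∃ v : V, v ≠ 0 ∧ φ v = 0 ∧ ψ v = 0 := by
  have h : LinearMap.ker (φ.prod ψ) ≠ ⊥ := fun h0 => by
    have := LinearMap.finrank_le_finrank_of_injective (LinearMap.ker_eq_bot.1 h0)
    simp at this
    omega
  obtain ⟨v, hv, hne⟩ := (Submodule.ne_bot_iff _).1 h
  exact ⟨v, hne, by simpa using (congrArg Prod.fst hv : _ = (0 : F × F).1),
    by simpa using (congrArg Prod.snd hv : _ = (0 : F × F).2)⟩

lemma exists_fun_kill (hn : 3 ≤ Fintype.card ι) (v w : V) :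
    ∃ φ : Dual F V, φ ≠ 0 ∧ φ v = 0 ∧ φ w = 0 := by
  obtain ⟨r, hr, h1, h2⟩ := exists_ker2 hn (dot v) (dot w)
  exact ⟨dot r, fun h => hr (dot_eq_zero.1 h), by rwa [dot_comm], by rwa [dot_comm]⟩

lemma tv_smul_mem {M : Subgroup (GL ι F)} {φ : Dual F V} {v : V}
    (h : ∀ c : F, tv v (c • φ) ∈ M) (hv : φ v = 0) (c : F) : tv (c • v) φ ∈ M := by
  rw [tv_smul hv]; exact h c

lemma range_pair (a b : V) : Set.range ![a, b] = {a, b} := by
  ext x
  simp [Set.mem_range, Fin.exists_fin_two, eq_comm, or_comm]

/-- One transvection spreads to all. -/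
theorem le_of_one_one {M : Subgroup (GL ι F)} (hn : 3 ≤ Fintype.card ι) (h1 : TypeOne M)
    (h2 : DualOne M) {v₀ : V} {φ₀ : Dual F V} (h0 : φ₀ v₀ = 0) (hm : tv v₀ φ₀ ∈ M)
    (hv : v₀ ≠ 0) (hφ : φ₀ ≠ 0) : SLG ι F ≤ M := by
  have hφfull : ∀ v, φ₀ v = 0 → tv v φ₀ ∈ M :=
    (h1.1 φ₀ hφ).resolve_right fun h => hv (h v₀ h0 hm)
  refine sl_le_of_tv M fun v φ hvφ => ?_
  by_cases hφ' : φ = 0
  · rw [hφ', tv_zero]; exact one_mem M
  obtain ⟨w, hw, hw0, hwφ⟩ := exists_ker2 hn φ₀ φ
  have hwfull : ∀ ψ : Dual F V, ψ w = 0 → tv w ψ ∈ M :=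
    (h2.1 w hw).resolve_right fun h => hφ (h φ₀ hw0 (hφfull w hw0))
  exact (h1.1 φ hφ').resolve_right (fun h => hw (h w hwφ (hwfull φ hwφ))) v hvφ

/-- Hyperplanes on one side, all or nothing on the other: impossible. -/
theorem false_of_two_one {M : Subgroup (GL ι F)} (hn : 3 ≤ Fintype.card ι) (h1 : TypeTwo M)
    (h2 : DualOne M) : False := by
  classical
  set P : Set V := {v | v = 0 ∨ ∀ φ : Dual F V, φ v = 0 → tv v φ ∈ M} with hP
  have hmem : ∀ (v : V) (φ : Dual F V), φ ≠ 0 → φ v = 0 → (tv v φ ∈ M ↔ v ∈ P) := by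
    intro v φ hφ hv
    refine ⟨fun h => ?_, ?_⟩
    · by_cases hv0 : v = 0
      · exact Or.inl hv0
      · exact Or.inr ((h2.1 v hv0).resolve_right fun h' => hφ (h' φ hv h))
    · rintro (rfl | h)
      · rw [tv_zerov]; exact one_mem M
      · exact h φ hv
  let U : Submodule F V :=
    { carrier := P
      zero_mem' := Or.inl rfl
      add_mem' := by
        intro v w hv hw
        obtain ⟨φ, hφ, hφv, hφw⟩ := exists_fun_kill hn v w
        refine (hmem (v + w) φ hφ (by simp [hφv, hφw])).1 ?_
        rw [tv_addv hφv hφw]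
        exact mul_mem ((hmem v φ hφ hφv).2 hv) ((hmem w φ hφ hφw).2 hw)
      smul_mem' := by
        intro c v hv
        rcases hv with rfl | hv
        · exact Or.inl (smul_zero c)
        · refine Or.inr fun φ hφ => ?_
          by_cases hc : c = 0
          · rw [hc, zero_smul, tv_zerov]; exact one_mem M
          · have hφ' : φ v = 0 := by simpa [hc] using hφ
            exact tv_smul_mem (fun d => hv _ (by simp [hφ'])) hφ' c }
  have hU : ∀ φ : Dual F V, φ ≠ 0 → finrank F (U ⊓ LinearMap.ker φ : Submodule F V) + 2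
      = Fintype.card ι := by
    intro φ hφ
    obtain ⟨l, hl, hiff⟩ := h1 φ hφ
    have he : U ⊓ LinearMap.ker φ = LinearMap.ker (φ.prod l) := by
      ext v
      simp only [Submodule.mem_inf, LinearMap.ker_prod, LinearMap.mem_ker]
      constructor
      · rintro ⟨hu, hv⟩; exact ⟨hv, (hiff v hv).1 ((hmem v φ hφ hv).2 hu)⟩
      · rintro ⟨hv, hl⟩; exact ⟨(hmem v φ hφ hv).1 ((hiff v hv).2 hl), hv⟩
    have hsurj : Function.Surjective (φ.prod l) := by
      obtain ⟨a0, ha0⟩ : ∃ a, φ a = 1 := LinearMap.surjective hφ 1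
      obtain ⟨b, hb0, hb⟩ : ∃ b, φ b = 0 ∧ l b ≠ 0 := by
        by_contra h
        push Not at h
        refine hl (l a0) (LinearMap.ext fun x => ?_)
        have := h (x - φ x • a0) (by simp [ha0])
        simp [sub_eq_zero] at this
        rw [this, LinearMap.smul_apply, smul_eq_mul, mul_comm]
      intro z
      refine ⟨z.1 • a0 + ((z.2 - z.1 * l a0) / l b) • b, ?_⟩
      simp [ha0, hb0, div_mul_cancel₀ _ hb]
    have h3 := LinearMap.finrank_range_add_finrank_ker (φ.prod l)
    rw [LinearMap.range_eq_top.2 hsurj, finrank_top, finrank_fintype_fun_eq_card, ← he] at h3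
    simp only [Module.finrank_prod, finrank_self] at h3
    omega
  by_cases htop : U = ⊤
  · obtain ⟨i⟩ : Nonempty ι := Fintype.card_pos_iff.1 (by omega)
    have hφ : (LinearMap.proj i : Dual F V) ≠ 0 := fun h => by
      simpa using LinearMap.congr_fun h (Pi.single i 1)
    have h3 := hU _ hφ
    rw [htop, top_inf_eq] at h3
    have h4 := LinearMap.finrank_range_add_finrank_ker (LinearMap.proj i : Dual F V)
    rw [finrank_fintype_fun_eq_card] at h4
    have h5 := Submodule.finrank_le (LinearMap.range (LinearMap.proj i : Dual F V))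
    rw [finrank_self] at h5
    omega
  obtain ⟨u, hu⟩ : ∃ u, u ∉ U := by
    by_contra h
    push Not at h
    exact htop (Submodule.eq_top_iff'.2 h)
  obtain ⟨φ, hφU, hφu⟩ := exists_dual_eq_one hu
  have h3 := hU φ (fun h => by simp [h] at hφu)
  rw [inf_eq_left.2 fun v hv => LinearMap.mem_ker.2 (hφU v hv)] at h3
  obtain ⟨v, hv, hvU⟩ : ∃ v ∈ U, v ≠ 0 := by
    by_contra h
    push Not at h
    rw [(Submodule.eq_bot_iff _).2 h, finrank_bot] at h3
    omega
  obtain ⟨ψ, -, hψv⟩ := exists_dual_eq_one (W := (⊥ : Submodule F V)) (u := v) (by simpa using hvU)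
  have h4 := hU ψ (fun h => by simp [h] at hψv)
  have h5 : U ⊓ LinearMap.ker ψ < U := lt_of_le_of_ne inf_le_left fun he => by
    have h6 : v ∈ U ⊓ LinearMap.ker ψ := by rw [he]; exact hv
    simp [hψv] at h6
  have h7 := Submodule.finrank_lt_finrank_of_lt h5
  omega

/-- Hyperplanes on both sides: impossible. -/
theorem false_of_two_two {M : Subgroup (GL ι F)} (hn : 3 ≤ Fintype.card ι) (h1 : TypeTwo M)
    (h2 : DualTwo M) : False := by
  classical
  choose u hu hiffu using h2
  let L : ∀ v : V, v ≠ 0 → Submodule F V := fun v hv => Submodule.span F {v, u v hv}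
  have hLv : ∀ (v : V) (hv : v ≠ 0), v ∈ L v hv := fun v hv =>
    Submodule.subset_span (Set.mem_insert _ _)
  have hiff : ∀ (v : V) (hv : v ≠ 0) (φ : Dual F V), φ v = 0 →
      (tv v φ ∈ M ↔ ∀ x ∈ L v hv, φ x = 0) := by
    intro v hv φ hφ
    rw [hiffu v hv φ hφ]
    constructor
    · intro h x hx
      obtain ⟨a, b, rfl⟩ := Submodule.mem_span_pair.1 hx
      simp [hφ, h]
    · intro h; exact h _ (Submodule.subset_span (Set.mem_insert_of_mem _ rfl))
  have hL2 : ∀ (v : V) (hv : v ≠ 0), finrank F (L v hv) = 2 := by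
    intro v hv
    have hind : LinearIndependent F ![v, u v hv] :=
      LinearIndependent.pair_iff' hv |>.2 fun a h => hu v hv a h.symm
    have := finrank_span_eq_card hind
    rwa [range_pair, Fintype.card_fin] at this
  -- the vectors with a given axis
  have hC : ∀ φ : Dual F V, φ ≠ 0 → ∃ l : Dual F V, (∀ c : F, l ≠ c • φ) ∧
      ∀ (v : V) (hv : v ≠ 0), φ v = 0 → ((∀ x ∈ L v hv, φ x = 0) ↔ l v = 0) := by
    intro φ hφ
    obtain ⟨l, hl, h⟩ := h1 φ hφ
    exact ⟨l, hl, fun v hv hv' => by rw [← hiff v hv φ hv', h v hv']⟩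
  have hclosed : ∀ (x y e : V) (hx : x ≠ 0) (hy : y ≠ 0) (he : e ≠ 0),
      e ∈ Submodule.span F {x, y} → L e he ≤ L x hx ⊔ L y hy := by
    intro x y e hx hy he hmem z hz
    by_contra hzn
    obtain ⟨φ, hφW, hφz⟩ := exists_dual_eq_one hzn
    obtain ⟨l, -, hlC⟩ := hC φ fun h => by simp [h] at hφz
    have hx' := hφW x (Submodule.mem_sup_left (hLv x hx))
    have hy' := hφW y (Submodule.mem_sup_right (hLv y hy))
    obtain ⟨a, b, hab⟩ := Submodule.mem_span_pair.1 hmem
    have h3 : φ e = 0 := by rw [← hab]; simp [hx', hy']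
    have h4 : l e = 0 := by
      rw [← hab]
      simp [(hlC x hx hx').1 fun w hw => hφW w (Submodule.mem_sup_left hw),
        (hlC y hy hy').1 fun w hw => hφW w (Submodule.mem_sup_right hw)]
    rw [(hlC e he h3).2 h4 z hz] at hφz
    exact zero_ne_one hφz
  have hequiv : ∀ (g : GL ι F), g ∈ M → ∀ (v : V) (hv : v ≠ 0) (hgv : app g v ≠ 0),
      ∀ x ∈ L v hv, app g x ∈ L (app g v) hgv := by
    intro g hg v hv hgv x hx
    by_contra hxn
    obtain ⟨φ, hφW, hφx⟩ := exists_dual_eq_one hxn
    have hφg : φ (app g v) = 0 := hφW _ (hLv _ hgv)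
    have h3 : tv (app g v) φ ∈ M := (hiff _ hgv φ hφg).2 hφW
    have h4 : tv v (φ ∘ₗ (app g).toLinearMap) ∈ M := by
      have := mul_mem (mul_mem (inv_mem hg) h3) hg
      rwa [tv_conj_inv _ hφg, app_inv_app] at this
    have h5 := (hiff v hv _ (by simpa using hφg)).1 h4 x hx
    simp [hφx] at h5
  -- any two lines meet
  have hmeet : ∀ (e r : V) (he : e ≠ 0) (hr : r ≠ 0), ∃ y, y ≠ 0 ∧ y ∈ L e he ∧ y ∈ L r hr := by
    intro e r he hr
    by_cases hre : r ∈ L e he
    · exact ⟨r, hr, hre, hLv r hr⟩
    by_cases her : e ∈ L r hr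
    · exact ⟨e, he, hLv e he, her⟩
    obtain ⟨φ, hφW, hφr⟩ := exists_dual_eq_one hre
    have hφe : φ e = 0 := hφW e (hLv e he)
    have ht : tv e φ ∈ M := (hiff e he φ hφe).2 hφW
    have htr : app (tv e φ) r = r + e := by rw [tv_apply hφe, hφr, one_smul]
    have hre0 : r + e ≠ 0 := fun h => hre (by
      rw [add_eq_zero_iff_eq_neg.1 h]; exact Submodule.neg_mem _ (hLv e he))
    have h3 : L e he ≤ L r hr ⊔ L (r + e) hre0 :=
      hclosed r (r + e) e hr hre0 he (Submodule.mem_span_pair.2 ⟨-1, 1, by simp⟩)
    have h4 : L (r + e) hre0 ≤ L r hr ⊔ Submodule.span F {e} := by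
      have hsub : (L r hr).map (app (tv e φ)).toLinearMap ≤ L (r + e) hre0 := by
        rintro _ ⟨x, hx, rfl⟩
        have := hequiv _ ht r hr (by rw [htr]; exact hre0) x hx
        simpa [htr] using this
      have := Submodule.eq_of_le_of_finrank_eq hsub (by rw [LinearEquiv.finrank_map_eq, hL2, hL2])
      rw [← this]
      rintro _ ⟨x, hx, rfl⟩
      rw [LinearEquiv.coe_coe, tv_apply hφe]
      exact Submodule.add_mem _ (Submodule.mem_sup_left hx)
        (Submodule.mem_sup_right (Submodule.smul_mem _ _ (Submodule.mem_span_singleton_self e)))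
    obtain ⟨x, hx, hxn⟩ : ∃ x ∈ L e he, x ∉ Submodule.span F {e} := by
      by_contra h
      push Not at h
      have h6 := Submodule.finrank_mono h
      rw [hL2, finrank_span_singleton he] at h6
      omega
    obtain ⟨y, hy, z, hz, hyz⟩ :=
      Submodule.mem_sup.1 (sup_le le_sup_left h4 (h3 hx))
    refine ⟨y, fun hy0 => hxn ?_, ?_, hy⟩
    · rw [← hyz, hy0, zero_add]; exact hz
    · rw [eq_sub_of_add_eq hyz]
      exact Submodule.sub_mem _ hx
        ((Submodule.span_singleton_le_iff_mem _ _).2 (hLv e he) hz)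
  by_cases hn4 : 4 ≤ Fintype.card ι
  · -- all lines pass through one point
    obtain ⟨e, he⟩ : ∃ e : V, e ≠ 0 := by
      obtain ⟨v, hv, -⟩ := exists_ker2 hn (0 : Dual F V) 0
      exact ⟨v, hv⟩
    obtain ⟨r, hre⟩ : ∃ r : V, r ∉ L e he := by
      by_contra h
      push Not at h
      have h6 := hL2 e he
      rw [Submodule.eq_top_iff'.2 h, finrank_top, finrank_fintype_fun_eq_card] at h6
      omega
    have hr : r ≠ 0 := fun h => hre (h ▸ Submodule.zero_mem _)
    obtain ⟨o, ho, hoe, hor⟩ := hmeet e r he hr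
    have hne : L e he ⊓ L r hr = Submodule.span F {o} := by
      refine (Submodule.eq_of_le_of_finrank_le ?_ ?_).symm
      · rw [Submodule.span_singleton_le_iff_mem]; exact ⟨hoe, hor⟩
      · rw [finrank_span_singleton ho]
        have h6 : L e he ⊓ L r hr < L e he := lt_of_le_of_ne inf_le_left fun h => hre (by
          have := inf_eq_left.1 h
          rw [Submodule.eq_of_le_of_finrank_eq this (by rw [hL2, hL2])]
          exact hLv r hr)
        have := Submodule.finrank_lt_finrank_of_lt h6
        rw [hL2] at this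
        omega
    set Pl := L e he ⊔ L r hr with hPlEq
    have hdimPl : finrank F Pl = 3 := by
      have := Submodule.finrank_sup_add_finrank_inf_eq (L e he) (L r hr)
      rw [hne, finrank_span_singleton ho, hL2, hL2, ← hPlEq] at this
      omega
    -- a line outside the plane passes through `o`
    have hout : ∀ (s : V) (hs : s ≠ 0), ¬ L s hs ≤ Pl →
        o ∈ L s hs ∧ L s hs ⊓ Pl = Submodule.span F {o} := by
      intro s hs hsn
      obtain ⟨a, ha, hae, has⟩ := hmeet e s he hs
      obtain ⟨b, hb, hbr, hbs⟩ := hmeet r s hr hs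
      have h1' : finrank F (L s hs ⊓ Pl : Submodule F V) ≤ 1 := by
        have h6 : L s hs ⊓ Pl < L s hs :=
          lt_of_le_of_ne inf_le_left fun h => hsn (inf_eq_left.1 h)
        have := Submodule.finrank_lt_finrank_of_lt h6
        rw [hL2] at this
        omega
      have heq : ∀ c, c ≠ 0 → c ∈ L s hs → c ∈ Pl → L s hs ⊓ Pl = Submodule.span F {c} := by
        intro c hc h3 h4
        refine (Submodule.eq_of_le_of_finrank_le ?_ ?_).symm
        · rw [Submodule.span_singleton_le_iff_mem]; exact ⟨h3, h4⟩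
        · rw [finrank_span_singleton hc]; exact h1'
      have ha' := heq a ha has (Submodule.mem_sup_left hae)
      have hb' : b ∈ Submodule.span F {a} := ha' ▸ ⟨hbs, Submodule.mem_sup_right hbr⟩
      obtain ⟨d, hd⟩ := Submodule.mem_span_singleton.1 hb'
      have hd0 : d ≠ 0 := fun h => hb (by rw [← hd, h, zero_smul])
      have har : a ∈ L r hr := by
        rw [show a = d⁻¹ • b by rw [← hd, inv_smul_smul₀ hd0]]
        exact Submodule.smul_mem _ _ hbr
      have hao : a ∈ Submodule.span F {o} := hne ▸ ⟨hae, har⟩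
      obtain ⟨d', hd'⟩ := Submodule.mem_span_singleton.1 hao
      have hd'0 : d' ≠ 0 := fun h => ha (by rw [← hd', h, zero_smul])
      have hos : o ∈ L s hs := by
        rw [show o = d'⁻¹ • a by rw [← hd', inv_smul_smul₀ hd'0]]
        exact Submodule.smul_mem _ _ has
      exact ⟨hos, heq o ho hos (Submodule.mem_sup_left hoe)⟩
    have hall : ∀ (s : V) (hs : s ≠ 0), o ∈ L s hs := by
      intro s hs
      by_cases hsPl : L s hs ≤ Pl
      · obtain ⟨w, hw⟩ : ∃ w : V, w ∉ Pl := by
          by_contra h
          push Not at h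
          rw [Submodule.eq_top_iff'.2 h, finrank_top, finrank_fintype_fun_eq_card] at hdimPl
          omega
        have hw0 : w ≠ 0 := fun h => hw (h ▸ Submodule.zero_mem _)
        obtain ⟨c, hc, hcs, hcw⟩ := hmeet s w hs hw0
        have h6 := (hout w hw0 fun h => hw (h (hLv w hw0))).2
        have h7 : c ∈ Submodule.span F {o} := h6 ▸ ⟨hcw, hsPl hcs⟩
        obtain ⟨d, hd⟩ := Submodule.mem_span_singleton.1 h7
        have hd0 : d ≠ 0 := fun h => hc (by rw [← hd, h, zero_smul])
        rw [show o = d⁻¹ • c by rw [← hd, inv_smul_smul₀ hd0]]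
        exact Submodule.smul_mem _ _ hcs
      · exact (hout s hs hsPl).1
    obtain ⟨φ, -, hφo⟩ := exists_dual_eq_one (W := (⊥ : Submodule F V)) (u := o) (by simpa using ho)
    obtain ⟨l, -, hlC⟩ := hC φ fun h => by simp [h] at hφo
    obtain ⟨v, hv, hφv, hlv⟩ := exists_ker2 hn φ l
    rw [(hlC v hv hφv).2 hlv o (hall v hv)] at hφo
    exact zero_ne_one hφo
  · -- the plane
    have hn3 : Fintype.card ι = 3 := by omega
    have huniq : ∀ φ : Dual F V, φ ≠ 0 → ∀ (v w : V) (hv : v ≠ 0) (hw : w ≠ 0),
        (∀ x ∈ L v hv, φ x = 0) → (∀ x ∈ L w hw, φ x = 0) → ∃ c : F, w = c • v := by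
      intro φ hφ v w hv hw hLv' hLw'
      obtain ⟨l, hl, hlC⟩ := hC φ hφ
      by_contra hne
      push Not at hne
      have hv' := hLv' v (hLv v hv)
      have hw' := hLw' w (hLv w hw)
      have hlv := (hlC v hv hv').1 hLv'
      have hlw := (hlC w hw hw').1 hLw'
      have hind : LinearIndependent F ![v, w] :=
        LinearIndependent.pair_iff' hv |>.2 fun a h => hne a h.symm
      have h2' : finrank F (Submodule.span F {v, w}) = 2 := by
        have := finrank_span_eq_card hind
        rwa [range_pair, Fintype.card_fin] at this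
      have hsub : Submodule.span F {v, w} ≤ LinearMap.ker φ ⊓ LinearMap.ker l := by
        rw [Submodule.span_le]
        rintro z (rfl | rfl) <;> simp [hv', hw', hlv, hlw]
      have hker : finrank F (LinearMap.ker φ) = 2 := by
        have h4 := LinearMap.finrank_range_add_finrank_ker φ
        rw [LinearMap.range_eq_top.2 (LinearMap.surjective hφ), finrank_top, finrank_self,
          finrank_fintype_fun_eq_card, hn3] at h4
        omega
      have hk : Submodule.span F {v, w} = LinearMap.ker φ :=
        Submodule.eq_of_le_of_finrank_eq (hsub.trans inf_le_left) (by rw [h2', hker])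
      obtain ⟨a0, ha0⟩ : ∃ a, φ a = 1 := LinearMap.surjective hφ 1
      refine hl (l a0) (LinearMap.ext fun x => ?_)
      have h5 : l (x - φ x • a0) = 0 := by
        have h6 : x - φ x • a0 ∈ Submodule.span F {v, w} := by rw [hk]; simp [ha0]
        exact LinearMap.mem_ker.1 (hsub h6).2
      simp [sub_eq_zero] at h5
      rw [h5, LinearMap.smul_apply, smul_eq_mul, mul_comm]
    -- two points, neither on the other's line
    obtain ⟨e, he⟩ : ∃ e : V, e ≠ 0 := by
      obtain ⟨v, hv, -⟩ := exists_ker2 hn (0 : Dual F V) 0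
      exact ⟨v, hv⟩
    obtain ⟨e', r, he', hr, hre, her⟩ : ∃ (e' r : V) (he' : e' ≠ 0) (hr : r ≠ 0),
        r ∉ L e' he' ∧ e' ∉ L r hr := by
      obtain ⟨r, hre⟩ : ∃ r : V, r ∉ L e he := by
        by_contra h
        push Not at h
        have h6 := hL2 e he
        rw [Submodule.eq_top_iff'.2 h, finrank_top, finrank_fintype_fun_eq_card] at h6
        omega
      have hr : r ≠ 0 := fun h => hre (h ▸ Submodule.zero_mem _)
      by_cases her : e ∈ L r hr
      swap
      · exact ⟨e, r, he, hr, hre, her⟩
      obtain ⟨x, hx, hxn⟩ : ∃ x ∈ L e he, x ∉ Submodule.span F {e} := by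
        by_contra h
        push Not at h
        have h6 := Submodule.finrank_mono h
        rw [hL2, finrank_span_singleton he] at h6
        omega
      have hr'e : r + x ∉ L e he := fun h => hre (by simpa using Submodule.sub_mem _ h hx)
      have hr' : r + x ≠ 0 := fun h => hr'e (h ▸ Submodule.zero_mem _)
      by_cases her' : e ∈ L (r + x) hr'
      swap
      · exact ⟨e, r + x, he, hr', hr'e, her'⟩
      -- the lines of `r` and `r + x` are spanned by `e` and the point itself
      have hspan : ∀ (s : V) (hs : s ≠ 0), s ∉ L e he → e ∈ L s hs →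
          L s hs = Submodule.span F {e, s} := by
        intro s hs hse hes
        have hind : LinearIndependent F ![e, s] :=
          LinearIndependent.pair_iff' he |>.2 fun a h =>
            hse (h ▸ Submodule.smul_mem _ a (hLv e he))
        have h2' : finrank F (Submodule.span F {e, s}) = 2 := by
          have := finrank_span_eq_card hind
          rwa [range_pair, Fintype.card_fin] at this
        refine (Submodule.eq_of_le_of_finrank_eq ?_ (by rw [h2', hL2])).symm
        rw [Submodule.span_le]
        rintro z (rfl | rfl)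
        exacts [hes, hLv _ hs]
      refine ⟨r, r + x, hr, hr', fun h => ?_, fun h => ?_⟩
      · rw [hspan r hr hre her, Submodule.mem_span_pair] at h
        obtain ⟨a, b, hab⟩ := h
        by_cases hb : b = 1
        · subst hb
          refine hxn (Submodule.mem_span_singleton.2 ⟨a, ?_⟩)
          rw [one_smul, add_comm r x] at hab
          exact add_right_cancel hab
        · have h8 : (b - 1) • r ∈ L e he := by
            have h9 : (b - 1) • r = x - a • e := by
              rw [sub_smul, one_smul, eq_sub_iff_add_eq]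
              linear_combination (norm := module) hab
            rw [h9]
            exact Submodule.sub_mem _ hx (Submodule.smul_mem _ _ (hLv e he))
          exact hre (by simpa [smul_smul, sub_ne_zero.2 hb] using
            Submodule.smul_mem _ (b - 1)⁻¹ h8)
      · rw [hspan (r + x) hr' hr'e her', Submodule.mem_span_pair] at h
        obtain ⟨a, b, hab⟩ := h
        by_cases hb : b = 1
        · subst hb
          refine hxn (Submodule.mem_span_singleton.2 ⟨-a, ?_⟩)
          linear_combination (norm := module) -hab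
        · have h8 : (1 - b) • r ∈ L e he := by
            have h9 : (1 - b) • r = a • e + b • x := by
              linear_combination (norm := module) -hab
            rw [h9]
            exact Submodule.add_mem _ (Submodule.smul_mem _ _ (hLv e he))
              (Submodule.smul_mem _ _ hx)
          exact hre (by simpa [smul_smul, sub_ne_zero.2 (Ne.symm hb)] using
            Submodule.smul_mem _ (1 - b)⁻¹ h8)
    obtain ⟨o, ho, hoe, hor⟩ := hmeet e' r he' hr
    have hoe' : ∀ c : F, o ≠ c • e' := by
      intro c hc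
      have hc0 : c ≠ 0 := fun h => ho (by rw [hc, h, zero_smul])
      exact her (by simpa [hc, smul_smul, hc0] using Submodule.smul_mem (L r hr) c⁻¹ hor)
    obtain ⟨φ, hφW, hφr⟩ := exists_dual_eq_one hre
    obtain ⟨θ, hθ, hθLo⟩ : ∃ θ : Dual F V, θ ≠ 0 ∧ ∀ x ∈ L o ho, θ x = 0 := by
      obtain ⟨w, hw⟩ : ∃ w : V, w ∉ L o ho := by
        by_contra h
        push Not at h
        have h6 := hL2 o ho
        rw [Submodule.eq_top_iff'.2 h, finrank_top, finrank_fintype_fun_eq_card] at h6
        omega
      obtain ⟨θ, h1', h2'⟩ := exists_dual_eq_one hw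
      exact ⟨θ, fun h => by simp [h] at h2', h1'⟩
    have hθo := hθLo o (hLv o ho)
    -- `θ e' ≠ 0`, since a plane determines its point
    have heo : L e' he' = Submodule.span F {e', o} := by
      have hind : LinearIndependent F ![e', o] :=
        LinearIndependent.pair_iff' he' |>.2 fun a h => hoe' a h.symm
      have h2' : finrank F (Submodule.span F {e', o}) = 2 := by
        have := finrank_span_eq_card hind
        rwa [range_pair, Fintype.card_fin] at this
      refine (Submodule.eq_of_le_of_finrank_eq ?_ (by rw [h2', hL2])).symm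
      rw [Submodule.span_le]
      rintro z (rfl | rfl)
      exacts [hLv _ he', hoe]
    have hθe : θ e' ≠ 0 := fun h => by
      obtain ⟨c, hc⟩ := huniq θ hθ e' o he' ho (fun x hx => by
        rw [heo] at hx
        obtain ⟨a, b, rfl⟩ := Submodule.mem_span_pair.1 hx
        simp [h, hθo]) hθLo
      exact hoe' c hc
    set a : F := -θ r / θ e' with ha
    have hφe : (a • φ) e' = 0 := by simp [hφW e' (hLv e' he')]
    have ht : tv e' (a • φ) ∈ M := (hiff e' he' _ hφe).2 fun x hx => by simp [hφW x hx]
    set r' := r + a • e' with hr'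
    have htr : app (tv e' (a • φ)) r = r' := by rw [tv_apply hφe]; simp [hφr, hr']
    have hto : app (tv e' (a • φ)) o = o := by rw [tv_apply hφe]; simp [hφW o hoe]
    have hφr' : φ r' = 1 := by simp [hr', hφr, hφW e' (hLv e' he')]
    have hr'0 : r' ≠ 0 := fun h => by simp [h] at hφr'
    have hor' : o ∈ L r' hr'0 := by
      have := hequiv _ ht r hr (by rw [htr]; exact hr'0) o hor
      simpa [hto, htr] using this
    have hind : LinearIndependent F ![r', o] :=
      LinearIndependent.pair_iff' hr'0 |>.2 fun c h => ho (by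
        have := congrArg φ h
        simp [hφr', hφW o hoe] at this
        rw [← h, this, zero_smul])
    have hLr' : L r' hr'0 = Submodule.span F {r', o} := by
      have h2' : finrank F (Submodule.span F {r', o}) = 2 := by
        have := finrank_span_eq_card hind
        rwa [range_pair, Fintype.card_fin] at this
      refine (Submodule.eq_of_le_of_finrank_eq ?_ (by rw [h2', hL2])).symm
      rw [Submodule.span_le]
      rintro z (rfl | rfl)
      exacts [hLv _ hr'0, hor']
    have hθr' : θ r' = 0 := by simp [hr', ha, div_mul_cancel₀ _ hθe]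
    obtain ⟨c, hc⟩ := huniq θ hθ r' o hr'0 ho (fun x hx => by
      rw [hLr'] at hx
      obtain ⟨a, b, rfl⟩ := Submodule.mem_span_pair.1 hx
      simp [hθr', hθo]) hθLo
    exact (LinearIndependent.pair_iff' hr'0).1 hind c hc.symm

/-- A subgroup of small index contains no transvection, and is of type one on both sides. -/
theorem free [Finite F] {M : Subgroup (GL ι F)} (hM : Small M) :
    (∀ (v : V) (φ : Dual F V), φ v = 0 → tv v φ ∈ M → v = 0 ∨ φ = 0) ∧ DualOne M := by
  have hn := hM.card
  rcases types hM with h1 | h1 <;> rcases types hM.dual with h2 | h2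
  · refine ⟨fun v φ hv hm => ?_, h2.dual⟩
    by_contra h
    push Not at h
    exact hM.not_le (le_of_one_one hn h1 h2.dual hv hm h.1 h.2)
  · exact (false_of_two_one hn h2 (TypeOne.dual (by rwa [dualSub_dualSub]))).elim
  · exact (false_of_two_one hn h1 h2.dual).elim
  · exact (false_of_two_two hn h1 h2.dual).elim

end Cfsg.Agent.MinIndexPSL
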