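/-
Without transvections a subgroup of small index would contain a lift of every element fixing a
point; commutators of the lifts of root elements show that some lift is a transvection after all.

Main result: `not_small`.
-/
import Cfsg.Agent.Lib.MinIndexPSL.Geometry

set_option autoImplicit false
set_option linter.unusedSectionVars false

namespace Cfsg.Agent.MinIndexPSL

open Module Matrix Transvect
open scoped MatrixGroups

variable {ι : Type} [Fintype ι] [DecidableEq ι] {F : Type*} [Field F]

local notation "V" => (ι → F)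

attribute [-simp] app_apply

/-- `elem i j a * tv e_p δ` lies in `M`. -/
def IsLift (M : Subgroup (GL ι F)) (p i j : ι) (a : F) (δ : Dual F V) : Prop :=
  δ (Pi.single p 1) = 0 ∧ elem i j a * tv (Pi.single p 1) δ ∈ M

variable {M : Subgroup (GL ι F)} {p : ι}

lemma IsLift.act {i j : ι} {a : F} {δ : Dual F V} (h : IsLift M p i j a δ) (hij : i ≠ j)
    (hjp : j ≠ p) (v : V) :
    app (elem i j a * tv (Pi.single p 1) δ) v
      = v + δ v • Pi.single p 1 + (a * v j) • Pi.single i 1 := by
  rw [map_mul, LinearEquiv.mul_apply, tv_apply h.1, elem_apply hij]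
  simp [hjp]

lemma exists_lift (hfac : ∀ g ∈ SLG ι F, ∃ δ : Dual F V, δ (Pi.single p 1) = 0 ∧
      tv (Pi.single p 1) δ * g ∈ M) (i j : ι) (a : F) :
    ∃ δ, IsLift M p i j a δ := by
  obtain ⟨δ, hδ, hm⟩ := hfac (elem i j a)⁻¹ (inv_mem (tv_mem_sl _ _))
  refine ⟨-δ, by simp [hδ], ?_⟩
  have := M.inv_mem hm
  rwa [_root_.mul_inv_rev, inv_inv, tv_inv hδ] at this

variable (hfree : ∀ (v : ι → F) (φ : Dual F (ι → F)), φ v = 0 → tv v φ ∈ M → v = 0 ∨ φ = 0)
include hfree

/-- Elements of `M` fixing the point are determined modulo the point. -/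
lemma eq_of_mod {a b : GL ι F} (ha : a ∈ M) (hb : b ∈ M) {π : F} (hπ : π ≠ 0)
    (hap : app a (Pi.single p 1) = π • Pi.single p 1)
    (hbp : app b (Pi.single p 1) = π • Pi.single p 1)
    (h : ∀ (y : V) (k : ι), k ≠ p → app a y k = app b y k) : a = b := by
  set P : V := Pi.single p 1 with hP
  set u := a * b⁻¹ with hu
  let ξ : Dual F V := (LinearMap.proj p).comp ((app u).toLinearMap - LinearMap.id)
  have hact : ∀ y, app u y = y + ξ y • P := by
    intro y
    funext k
    by_cases hk : k = p
    · subst hk; simp [ξ, hP]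
    · have := h (app b⁻¹ y) k hk
      rw [app_app_inv] at this
      rw [hu, map_mul, LinearEquiv.mul_apply, this]
      simp [hP, hk]
  have hbP : app b⁻¹ P = π⁻¹ • P := by
    have := congrArg (app b⁻¹) hbp
    rw [app_inv_app, map_smul] at this
    exact (inv_smul_eq_iff₀ hπ).2 this |>.symm
  have huP : app u P = P := by
    rw [hu, map_mul, LinearEquiv.mul_apply, hbP, map_smul, hap, smul_smul, inv_mul_cancel₀ hπ,
      one_smul]
  have hξ : ξ P = 0 := by simp [ξ, huP]
  have hu' : u = tv P ξ := gl_ext fun y => by rw [hact, tv_apply hξ]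
  have hone : u = 1 := by
    rcases hfree P ξ hξ (hu' ▸ mul_mem ha (inv_mem hb)) with h0 | h0
    · have := congrFun h0 p
      simp [hP] at this
    · rw [hu', h0, tv_zero]
  exact mul_inv_eq_one.1 hone

lemma commutator_rel {i j l : ι} (hij : i ≠ j) (hjl : j ≠ l) (hil : i ≠ l) (hip : i ≠ p)
    (hjp : j ≠ p) (hlp : l ≠ p) {δ ε η : Dual F V} (hx : IsLift M p i j 1 δ)
    (hy : IsLift M p j l 1 ε) (hz : IsLift M p i l 1 η) :
    (∀ k, k ≠ j → k ≠ l → η (Pi.single k 1) = 0) ∧
      η (Pi.single j 1) = -ε (Pi.single i 1) := by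
  set x := elem i j 1 * tv (Pi.single p 1) δ with hxdef
  set y := elem j l 1 * tv (Pi.single p 1) ε with hydef
  set z := elem i l 1 * tv (Pi.single p 1) η with hzdef
  have Ax := hx.act hij hjp
  have Ay := hy.act hjl hlp
  have Az := hz.act hil hlp
  rw [← hxdef] at Ax
  rw [← hydef] at Ay
  rw [← hzdef] at Az
  have heq : x * y = z * y * x := by
    refine eq_of_mod (p := p) hfree (mul_mem hx.2 hy.2) (mul_mem (mul_mem hz.2 hy.2) hx.2) one_ne_zero
      ?_ ?_ fun w k hk => ?_
    · simp [Ax, Ay, hjp, hlp, hx.1, hy.1]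
    · simp [Ax, Ay, Az, hjp, hlp, hx.1, hy.1, hz.1]
    · simp [Ax, Ay, Az, hjp, hlp, hk, hij, hjl, hil, hij.symm, hjl.symm, hil.symm]
      ring
  have hat : ∀ w : V, app (x * y) w p = app (z * y * x) w p := fun w => by rw [heq]
  have hi : η (Pi.single i 1) = 0 := by
    simpa [Ax, Ay, Az, hjp, hlp, hip, hip.symm, hjp.symm, hij, hil, hij.symm, hil.symm, hjl,
      hjl.symm, hx.1, hy.1, hz.1, add_assoc, add_comm, add_left_comm] using (hat (Pi.single i 1)).symm
  refine ⟨fun k hkj hkl => ?_, ?_⟩
  · by_cases hkp : k = p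
    · rw [hkp]; exact hz.1
    have := hat (Pi.single k 1)
    simp [Ax, Ay, Az, hjp, hlp, hip, hip.symm, hjp.symm, hij, hil, hij.symm, hil.symm, hjl,
      hjl.symm, hkj, hkl, Ne.symm hkj, Ne.symm hkl, hkp, Ne.symm hkp, hx.1, hy.1, hz.1] at this
    linear_combination -this
  · have := hat (Pi.single j 1)
    simp [Ax, Ay, Az, hjp, hlp, hip, hip.symm, hjp.symm, hij, hil, hij.symm, hil.symm, hjl,
      hjl.symm, hx.1, hy.1, hz.1, hi] at this
    linear_combination -this

lemma commute_rel {i j l : ι} (hij : i ≠ j) (hjl : j ≠ l) (hil : i ≠ l) (hip : i ≠ p)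
    (hjp : j ≠ p) (hlp : l ≠ p) {δ ε : Dual F V} (hx : IsLift M p i l 1 δ)
    (hy : IsLift M p j l 1 ε) : δ (Pi.single j 1) = ε (Pi.single i 1) := by
  set x := elem i l 1 * tv (Pi.single p 1) δ with hxdef
  set y := elem j l 1 * tv (Pi.single p 1) ε with hydef
  have Ax := hx.act hil hlp
  have Ay := hy.act hjl hlp
  rw [← hxdef] at Ax
  rw [← hydef] at Ay
  have heq : x * y = y * x := by
    refine eq_of_mod (p := p) hfree (mul_mem hx.2 hy.2) (mul_mem hy.2 hx.2) one_ne_zero
      ?_ ?_ fun w k hk => ?_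
    · simp [Ax, Ay, hlp, hx.1, hy.1]
    · simp [Ax, Ay, hlp, hx.1, hy.1]
    · simp [Ax, Ay, hlp, hk, hjl, hil, hjl.symm, hil.symm]
      ring
  have := congrArg (fun g => app g (Pi.single l 1) p) heq
  simp [Ax, Ay, hlp, hlp.symm, hip.symm, hjp.symm, hij, hil, hij.symm, hil.symm, hjl,
    hjl.symm, hx.1, hy.1] at this
  linear_combination this

omit hfree in
/-- A diagonal matrix as an invertible matrix. -/
def diagGL (d : ι → F) (hd : ∀ k, d k ≠ 0) : GL ι F where
  val := Matrix.diagonal d
  inv := Matrix.diagonal fun k => (d k)⁻¹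
  val_inv := by rw [Matrix.diagonal_mul_diagonal]; simp [hd]
  inv_val := by rw [Matrix.diagonal_mul_diagonal]; simp [hd]

omit hfree in
lemma diagGL_apply (d : ι → F) (hd : ∀ k, d k ≠ 0) (v : V) (k : ι) :
    app (diagGL d hd) v k = d k * v k := by
  rw [app_apply]
  exact Matrix.mulVec_diagonal _ _ _

/-- A torus element commuting with a lift. -/
lemma torus_rel (hfac : ∀ g ∈ SLG ι F, ∃ δ : Dual F V, δ (Pi.single p 1) = 0 ∧
      tv (Pi.single p 1) δ * g ∈ M) {i l : ι} (hil : i ≠ l) (hip : i ≠ p) (hlp : l ≠ p)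
    {δ : Dual F V} (hx : IsLift M p i l 1 δ) (d : ι → F) (hd : ∀ k, d k ≠ 0)
    (hdet : ∏ k, d k = 1) (hdil : d i = d l) {k : ι} (hkl : k ≠ l) (hkp : k ≠ p)
    (hne : d p ≠ d k) : δ (Pi.single k 1) = 0 := by
  have hh : diagGL d hd ∈ SLG ι F := mem_sl_iff.2 (by simpa [diagGL] using hdet)
  obtain ⟨θ₀, hθ₀, hm⟩ := hfac _ (inv_mem hh)
  have hm' := M.inv_mem hm
  rw [_root_.mul_inv_rev, inv_inv, tv_inv hθ₀] at hm'
  set θ := -θ₀ with hθdef
  have hθ : θ (Pi.single p 1) = 0 := by simp [hθdef, hθ₀]
  set x := elem i l 1 * tv (Pi.single p 1) δ with hxdef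
  set h' := diagGL d hd * tv (Pi.single p 1) θ with hhdef
  have Ax := hx.act hil hlp
  rw [← hxdef] at Ax
  have Ah : ∀ (v : V) (m : ι),
      app h' v m = d m * (v m + θ v * (Pi.single p 1 : V) m) := fun v m => by
    rw [hhdef, map_mul, LinearEquiv.mul_apply, diagGL_apply, tv_apply hθ]
    simp
  have hhP : app h' (Pi.single p 1) = d p • Pi.single p 1 := funext fun m => by
    rw [Ah]
    by_cases hm : m = p <;> simp [hm, hθ]
  have hxP : app x (Pi.single p 1) = Pi.single p 1 := by simp [Ax, hlp, hx.1]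
  have heq : x * h' = h' * x := by
    refine eq_of_mod (p := p) hfree (mul_mem hx.2 hm') (mul_mem hm' hx.2) (hd p) ?_ ?_ fun w m hm => ?_
    · simp [hhP, hxP]
    · simp [hhP, hxP]
    · by_cases hmi : m = i
      · subst hmi; simp [Ax, Ah, hm, hil, hlp, hdil]; ring
      · simp [Ax, Ah, hm, hmi]
  have hk : app h' (Pi.single k 1)
      = d k • Pi.single k 1 + (d p * θ (Pi.single k 1)) • Pi.single p 1 := funext fun m => by
    rw [Ah]
    by_cases hm : m = p
    · subst hm; simp [Ne.symm hkp]
    · by_cases hmk : m = k <;> simp [hm, hmk, hkp]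
  have hxk : app x (Pi.single k 1)
      = Pi.single k 1 + δ (Pi.single k 1) • Pi.single p 1 := by simp [Ax, hkl.symm]
  have := congrArg (fun g => app g (Pi.single k 1) p) heq
  simp only [map_mul, LinearEquiv.mul_apply, hk, hxk, map_add, map_smul, hxP, hhP, Pi.add_apply,
    Pi.smul_apply, smul_eq_mul, Pi.single_eq_same, Pi.single_eq_of_ne (Ne.symm hkp)] at this
  have h0 : (d k - d p) * δ (Pi.single k 1) = 0 := by linear_combination this
  exact (mul_eq_zero.1 h0).resolve_left (sub_ne_zero.2 (Ne.symm hne))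

lemma square_rel {i l : ι} (hil : i ≠ l) (hip : i ≠ p) (hlp : l ≠ p) {δ : Dual F V}
    (hx : IsLift M p i l 1 δ) (h2 : (2 : F) = 0) : δ (Pi.single i 1) = 0 := by
  set x := elem i l 1 * tv (Pi.single p 1) δ with hxdef
  have Ax := hx.act hil hlp
  rw [← hxdef] at Ax
  have heq : x * x = 1 := by
    refine eq_of_mod (p := p) hfree (mul_mem hx.2 hx.2) (one_mem _) one_ne_zero ?_ ?_ fun w k hk => ?_
    · simp [Ax, hlp, hx.1]
    · simp
    · simp [Ax, hlp, hk, hil, hil.symm, map_one]
      linear_combination (w l * (Pi.single i 1 : V) k) * h2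
  have := congrArg (fun g => app g (Pi.single l 1) p) heq
  simp [Ax, hlp, hlp.symm, hip.symm, hil, hil.symm, hx.1, map_one] at this
  linear_combination this - δ (Pi.single l 1) * h2

omit hfree

/-- No proper subgroup of `SL` has index below the number of points. -/
theorem not_small [Finite F] (hexc : ¬ (Fintype.card ι = 4 ∧ Nat.card F = 2)) : ¬ Small M := by
  intro hM
  obtain ⟨hfree, hD⟩ := free hM
  have hn := hM.card
  obtain ⟨p, i, l, hip, hlp, hil⟩ : ∃ p i l : ι, i ≠ p ∧ l ≠ p ∧ i ≠ l := by
    obtain ⟨a, b, c, hab, hac, hbc⟩ := Fintype.two_lt_card_iff.1 (by omega : 2 < Fintype.card ι)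
    exact ⟨a, b, c, hab.symm, hac.symm, hbc⟩
  have hP : (Pi.single p 1 : V) ≠ 0 := fun h => by simpa using congrFun h p
  have hfac := hD.2 hfree _ hP
  obtain ⟨η, hη⟩ := exists_lift hfac i l 1
  suffices key : ∀ k, k ≠ l → η (Pi.single k 1) = 0 by
    have hφ : (LinearMap.proj l : Dual F V) (Pi.single i 1 + η (Pi.single l 1) • Pi.single p 1)
        = 0 := by simp [hil.symm, hlp]
    have hη' : ∀ w, η w = w l * η (Pi.single l 1) := fun w => by
      conv_lhs => rw [pi_eq_sum_univ' w, map_sum]
      rw [Finset.sum_eq_single l (fun k _ hk => by rw [map_smul, key k hk, smul_zero])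
        (fun h => absurd (Finset.mem_univ l) h), map_smul, smul_eq_mul]
    have he : elem i l 1 * tv (Pi.single p 1) η
        = tv (Pi.single i 1 + η (Pi.single l 1) • Pi.single p 1) (LinearMap.proj l) := by
      refine gl_ext fun w => ?_
      rw [hη.act hil hlp, tv_apply hφ, hη']
      simp only [LinearMap.proj_apply, one_mul, smul_add, smul_smul]
      module
    rcases hfree _ _ hφ (he ▸ hη.2) with h | h
    · simpa [hip] using congrFun h i
    · simpa using LinearMap.congr_fun h (Pi.single l 1)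
  intro k hkl
  by_cases hkp : k = p
  · rw [hkp]; exact hη.1
  by_cases h5 : 5 ≤ Fintype.card ι
  · obtain ⟨j, hj⟩ : ∃ j, j ∉ ({k, l, i, p} : Finset ι) := by
      by_contra h
      push Not at h
      have h6 : Fintype.card ι ≤ 4 :=
        (Finset.card_le_card (t := {k, l, i, p}) fun m _ => h m).trans Finset.card_le_four
      omega
    simp only [Finset.mem_insert, Finset.mem_singleton, not_or] at hj
    obtain ⟨hjk, hjl, hji, hjp⟩ := hj
    obtain ⟨δ, hδ⟩ := exists_lift hfac i j 1
    obtain ⟨ε, hε⟩ := exists_lift hfac j l 1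
    exact (commutator_rel hfree (Ne.symm hji) hjl hil hip hjp hlp hδ hε hη).1 k (Ne.symm hjk) hkl
  by_cases h4 : Fintype.card ι = 4
  · obtain ⟨j, hj⟩ : ∃ j, j ∉ ({l, i, p} : Finset ι) := by
      by_contra h
      push Not at h
      have h6 : Fintype.card ι ≤ 3 :=
        (Finset.card_le_card (t := {l, i, p}) fun m _ => h m).trans Finset.card_le_three
      omega
    simp only [Finset.mem_insert, Finset.mem_singleton, not_or] at hj
    obtain ⟨hjl, hji, hjp⟩ := hj
    obtain ⟨δ, hδ⟩ := exists_lift hfac i j 1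
    obtain ⟨ε, hε⟩ := exists_lift hfac j l 1
    have hrel := commutator_rel hfree (Ne.symm hji) hjl hil hip hjp hlp hδ hε hη
    by_cases hkj : k = j
    swap
    · exact hrel.1 k hkj hkl
    subst hkj
    by_cases h2 : (2 : F) = 0
    · obtain ⟨t, ht0, ht1⟩ : ∃ t : F, t ≠ 0 ∧ t ≠ 1 := by
        by_contra h
        push Not at h
        refine hexc ⟨h4, ?_⟩
        letI := Fintype.ofFinite F
        classical
        have hle : Fintype.card F ≤ 2 := by
          rw [← Finset.card_univ]
          refine (Finset.card_le_card (t := {0, 1}) fun x _ => ?_).trans Finset.card_le_two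
          by_cases hx : x = 0
          · simp [hx]
          · simp [h x hx]
        have := Fintype.one_lt_card (α := F)
        rw [Nat.card_eq_fintype_card]
        omega
      have ht2 : t * t ≠ 1 := fun h => ht1 (by
        have : (t - 1) * (t - 1) = 0 := by linear_combination h + (1 - t) * h2
        exact sub_eq_zero.1 (mul_self_eq_zero.1 this))
      let d : ι → F := fun m => if m = p then (t * t)⁻¹ else if m = k then 1 else t
      have huniv : (Finset.univ : Finset ι) = {p, k, i, l} := by
        refine (Finset.eq_univ_of_card _ ?_).symm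
        rw [Finset.card_insert_of_notMem, Finset.card_insert_of_notMem, Finset.card_pair hil, h4]
          <;> simp [Ne.symm hjp, hip.symm, hlp.symm, hji, hjl]
      refine torus_rel hfree hfac hil hip hlp hη d (fun m => ?_) ?_ ?_ hkl hkp ?_
      · simp only [d]; split_ifs <;> simp [ht0]
      · rw [huniv, Finset.prod_insert, Finset.prod_insert, Finset.prod_pair hil]
        · simp [d, hjp, hip, hlp, Ne.symm hji, Ne.symm hjl, ht0]
          field_simp
        · simp [hji, hjl]
        · simp [Ne.symm hjp, hip.symm, hlp.symm]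
      · simp [d, hip, hlp, Ne.symm hji, Ne.symm hjl]
      · simp only [d, hjp, if_false, if_true]
        exact fun h => ht2 (inv_eq_one.1 h)
    · have h3 := commute_rel hfree (Ne.symm hji) hjl hil hip hjp hlp hη hε
      have h4' : (2 : F) * η (Pi.single k 1) = 0 := by linear_combination h3 + hrel.2
      exact (mul_eq_zero.1 h4').resolve_left h2
  · have huniv : (Finset.univ : Finset ι) = {p, i, l} := by
      refine (Finset.eq_univ_of_card _ ?_).symm
      rw [Finset.card_insert_of_notMem (by simp [hip.symm, hlp.symm]), Finset.card_pair hil]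
      omega
    have hki : k = i := by
      have := huniv ▸ Finset.mem_univ k
      simpa [hkp, hkl] using this
    subst hki
    by_cases h2 : (2 : F) = 0
    · exact square_rel hfree hil hip hlp hη h2
    · refine torus_rel hfree hfac hil hip hlp hη (fun m => if m = p then 1 else -1)
        (fun m => by split_ifs <;> simp) ?_ (by simp [hip, hlp]) hil hip ?_
      · rw [huniv, Finset.prod_insert (by simp [hip.symm, hlp.symm]), Finset.prod_pair hil]
        simp [hip, hlp]
      · simpa [hip] using fun h : (1 : F) = -1 => h2 (by linear_combination h)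

end Cfsg.Agent.MinIndexPSL
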